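import Cfsg.Agent.SuzukiUnique.Setup
import Cfsg.Agent.Suz.Lie

/-!
# Suzuki's uniqueness theorem: a Zassenhaus group of Suzuki type is a Suzuki group
-/

set_option autoImplicit false
set_option linter.unusedSectionVars false
set_option linter.style.haveILetI false

namespace Cfsg.Lib.SuzukiUnique

open MulAction
open Cfsg.Lib.Suz (Par SL4 T W pt fn)

universe u v

section Target

variable {F : Type} [Field F] [Fintype F] [CharP F 2] {φ : F ≃+* F} {m : ℕ} (Q : Par F m)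

/-- the map induced by the antidiagonal element -/
def target (m : ℕ) (p : F × F) : F × F := (p.2 / fn m p.1 p.2, p.1 / fn m p.1 p.2)

include Q

theorem fn_ne {p : F × F} (hp : p ≠ 0) : fn m p.1 p.2 ≠ 0 := fun h => hp (by
  obtain ⟨h1, h2⟩ := Cfsg.Lib.Suz.fn_eq_zero Q h
  exact Prod.ext h1 h2)

theorem W_target {p : F × F} (hp : p ≠ 0) : W F • pt m p.1 p.2 = pt m (target m p).1 (target m p).2 :=
  Cfsg.Lib.Suz.W_pt Q (fn_ne Q hp)

/-- an element fixing three standard points is trivial -/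
theorem eq_one_of_fix {g : SL4 F} (hg : g ∈ Cfsg.Sz F m)
    (h1 : g • Cfsg.suzukiPointInfinity F = Cfsg.suzukiPointInfinity F) (h2 : g • pt m (0 : F) 0 = pt m 0 0)
    {y : F} (h3 : g • pt m (1 : F) y = pt m 1 y) : g = 1 := by
  obtain ⟨k, rfl⟩ := Cfsg.Lib.Suz.stab_pair Q hg h1 h2
  rw [Cfsg.Lib.Suz.H_pt Q, mul_one] at h3
  obtain ⟨hk, -⟩ := Cfsg.Lib.Suz.pt_inj h3
  have hk1 : k = 1 := Units.ext hk
  subst hk1
  refine Subtype.ext ?_
  ext i j
  fin_cases i <;> fin_cases j <;> simp [Cfsg.Lib.Suz.H]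

theorem W_T_W : W F * T m 0 1 * W F = T m 1 0 * W F * (T m (1 : F) 0)⁻¹ := by
  have hs : (2 : ℕ) ^ (m + 1) ≠ 0 := pow_ne_zero _ two_ne_zero
  have h11 : fn m (1 : F) 1 = 1 := by simp [fn, CharTwo.add_self_eq_zero]
  have h10 : fn m (1 : F) 0 = 1 := by simp [fn, zero_pow hs]
  have h01 : fn m (0 : F) 1 = 1 := by simp [fn, zero_pow (show 2 ^ (m + 1) + 2 ≠ 0 from Nat.succ_ne_zero _)]
  have e11 : W F • pt m (1 : F) 1 = pt m 1 1 := by
    rw [Cfsg.Lib.Suz.W_pt Q (by rw [h11]; exact one_ne_zero), h11]; simp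
  have e10 : W F • pt m (1 : F) 0 = pt m 0 1 := by
    rw [Cfsg.Lib.Suz.W_pt Q (by rw [h10]; exact one_ne_zero), h10]; simp
  have e01 : W F • pt m (0 : F) 1 = pt m 1 0 := by
    rw [Cfsg.Lib.Suz.W_pt Q (by rw [h01]; exact one_ne_zero), h01]; simp
  have et : (T m (1 : F) 0)⁻¹ = T m 1 1 := by rw [Cfsg.Lib.Suz.T_inv Q]; simp
  have hW := Cfsg.Lib.Suz.W_mem Q
  have hT := fun a b => Cfsg.Lib.Suz.T_mem Q a b
  rw [← inv_mul_eq_one, et]
  set g : SL4 F := W F * T m 0 1 * W F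
  set g' : SL4 F := T m 1 0 * W F * T m 1 1
  have key : ∀ x : Projectivization F (Fin 4 → F), g • x = g' • x → (g⁻¹ * g') • x = x := fun x hx => by
    rw [mul_smul, ← hx, inv_smul_smul]
  refine eq_one_of_fix Q (mul_mem (inv_mem (mul_mem (mul_mem hW (hT _ _)) hW)) (mul_mem (mul_mem (hT _ _) hW) (hT _ _)))
    (y := 1) (key _ ?_) (key _ ?_) (key _ ?_)
  · simp only [g, g', mul_smul, Cfsg.Lib.Suz.T_inf, Cfsg.Lib.Suz.W_inf m, Cfsg.Lib.Suz.T_pt Q, e01,
      mul_zero, add_zero, zero_add, zero_pow hs]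
  · simp only [g, g', mul_smul, Cfsg.Lib.Suz.W_zero, Cfsg.Lib.Suz.W_inf m, Cfsg.Lib.Suz.T_inf,
      Cfsg.Lib.Suz.T_pt Q, e11, mul_zero, add_zero, zero_add, one_pow, one_mul, CharTwo.add_self_eq_zero]
  · simp only [g, g', mul_smul, Cfsg.Lib.Suz.T_pt Q, e11, e10, e01, mul_zero, zero_mul, add_zero, zero_add,
      one_pow, one_mul, zero_pow hs, CharTwo.add_self_eq_zero]

theorem target_rel (hφ : ∀ x, φ x = x ^ (2 ^ (m + 1))) (hinj : ∀ x : F, psi φ x = 1 → x = 1) :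
    Rel φ (target m) 0 1 := by
  have hs : (2 : ℕ) ^ (m + 1) ≠ 0 := pow_ne_zero _ two_ne_zero
  have hne : ∀ p : F × F, p ≠ 0 → target m p ≠ 0 := fun p hp h0 => hp (by
    have h1 := congrArg Prod.fst h0
    have h2 := congrArg Prod.snd h0
    simp only [target, Prod.fst_zero, Prod.snd_zero, div_eq_zero_iff, fn_ne Q hp, or_false] at h1 h2
    exact Prod.ext h2 h1)
  have hstar : ∀ p q : F × F, T m p.1 p.2 • pt m q.1 q.2 = pt m (star φ p q).1 (star φ p q).2 := fun p q => by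
    rw [Cfsg.Lib.Suz.T_pt Q]
    simp only [star, hφ]
    congr 1 <;> ring
  refine ⟨hinj, one_ne_zero, hne, fun p hp => ?_, fun l p hl hp => ?_, ?_, fun p hp hpc => ?_⟩
  · have h1 := W_target Q hp
    have h2 := W_target Q (hne p hp)
    rw [← h1, ← mul_smul, Cfsg.Lib.Suz.W_sq Q, one_smul] at h2
    obtain ⟨e1, e2⟩ := Cfsg.Lib.Suz.pt_inj h2.symm
    exact Prod.ext e1 e2
  · have e : psi φ l = l ^ (2 ^ (m + 1) + 1) := by rw [psi, hφ, pow_succ l, mul_comm]
    simp only [target, act_mk, act, e, Cfsg.Lib.Suz.fn_smul Q, psi_inv]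
    have := fn_ne Q hp
    refine Prod.ext ?_ ?_
    · simp only
      field_simp
      ring
    · simp only
      field_simp
      ring
  · simp [target, fn, zero_pow (show 2 ^ (m + 1) + 2 ≠ 0 from Nat.succ_ne_zero _)]
  · have hs1 : star φ (pinv φ (1, (0 : F))) p ≠ 0 := fun e' => hpc (by
      have := congrArg (star φ ((1 : F), (0 : F))) e'
      rw [← star_assoc, star_pinv, star_zero_left] at this
      rw [this]
      simp [star])
    have e1 : (W F * T m 0 1 * W F) • pt m p.1 p.2 =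
        pt m (star φ ((1 : F), (0 : F)) (target m (star φ (pinv φ (1, (0 : F))) p))).1
          (star φ ((1 : F), (0 : F)) (target m (star φ (pinv φ (1, (0 : F))) p))).2 := by
      rw [W_T_W Q, mul_smul, mul_smul, show (T m (1 : F) 0)⁻¹ = T m 1 1 by rw [Cfsg.Lib.Suz.T_inv Q]; simp,
        hstar ((1 : F), (1 : F)), show ((1 : F), (1 : F)) = pinv φ (1, (0 : F)) by simp [pinv, psi],
        W_target Q hs1, hstar ((1 : F), (0 : F))]
    have hs2 : star φ ((0 : F), (1 : F)) (target m p) ≠ 0 := fun e' => by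
      rw [mul_smul, mul_smul, W_target Q hp, hstar ((0 : F), (1 : F)), e'] at e1
      simp only [Prod.fst_zero, Prod.snd_zero, Cfsg.Lib.Suz.W_zero] at e1
      exact Cfsg.Lib.Suz.pt_ne_inf _ _ _ e1.symm
    rw [mul_smul, mul_smul, W_target Q hp, hstar ((0 : F), (1 : F)), W_target Q hs2] at e1
    obtain ⟨ea, eb⟩ := Cfsg.Lib.Suz.pt_inj e1
    rw [act_one]
    exact Prod.ext ea eb

end Target

variable {G : Type u} {Ω : Type v} [Group G] [Finite G] [MulAction G Ω] [Fintype Ω] [IsSimpleGroup G]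
variable {a b : Ω} {H : Subgroup G} {h e : ℕ}

theorem isoSuzuki (C : Cfsg.Lib.ZTGroups.Core a b H h e) : Cfsg.Lie.IsoSuzuki G := by
  classical
  obtain ⟨F, iF, iFF, iC, φ, ι, κ, w, f, k, hcard, K, hwa, hwb, hfp, R⟩ := exists_frame C
  obtain ⟨n, ⟨m, rfl⟩, hn1, hh, hen⟩ := C.parameters
  have hF : Fintype.card F = 2 ^ (2 * m + 1) := hcard.trans hen
  have Q : Par F m := ⟨by omega, hF⟩
  -- the automorphism
  have hiter : ∀ (j : ℕ) (x : F), (φ ^ (2 * j)) x = x ^ 2 ^ j := by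
    intro j
    induction j with
    | zero => intro x; simp
    | succ j ih =>
      intro x
      rw [show 2 * (j + 1) = 1 + 1 + 2 * j by ring, pow_add, pow_add, pow_one, RingAut.mul_apply,
        RingAut.mul_apply, R.phi_sq, ih, ← pow_mul, ← pow_succ]
  have hord : φ ^ (2 * m + 1) = 1 := by
    have h1 : φ ^ (2 * (2 * m + 1)) = 1 := RingEquiv.ext fun x => by
      rw [hiter, ← hF, FiniteField.pow_card]
      rfl
    refine orderOf_dvd_iff_pow_eq_one.mp (Nat.Coprime.dvd_of_dvd_mul_left ?_ (orderOf_dvd_of_pow_eq_one h1))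
    exact (Nat.coprime_two_right).mpr K.odd
  have hφ : ∀ x, φ x = x ^ 2 ^ (m + 1) := fun x => by
    rw [← hiter, show 2 * (m + 1) = (2 * m + 1) + 1 by ring, pow_succ, hord, one_mul]
  have hf : ∀ p, p ≠ 0 → f p = target m p := fun p hp => R.unique (target_rel Q hφ K.inj) hp
  refine ⟨F, iF, iFF, m, Q.hm, hF, ?_⟩
  -- the bijection of points
  let co : Ω → F × F := fun x => if hx : x = a then 0 else (K.pt_surj C x hx).choose
  have hco : ∀ x, x ≠ a → ι (co x) • b = x := fun x hx => by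
    simp only [co, dif_neg hx]
    exact (K.pt_surj C x hx).choose_spec
  let ε : Ω → Projectivization F (Fin 4 → F) := fun x =>
    if x = a then Cfsg.suzukiPointInfinity F else pt m (co x).1 (co x).2
  have hεa : ε a = Cfsg.suzukiPointInfinity F := if_pos rfl
  have hεp : ∀ p, ε (ι p • b) = pt m p.1 p.2 := fun p => by
    have hne := K.pt_ne_a C p
    simp only [ε, if_neg hne, K.pt_inj C (hco _ hne)]
  have hεinj : Function.Injective ε := by
    intro x y exy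
    by_cases hx : x = a <;> by_cases hy : y = a
    · rw [hx, hy]
    · rw [hx, hεa, ← hco y hy, hεp] at exy
      exact absurd exy.symm (Cfsg.Lib.Suz.pt_ne_inf _ _ _)
    · rw [hy, hεa, ← hco x hx, hεp] at exy
      exact absurd exy (Cfsg.Lib.Suz.pt_ne_inf _ _ _)
    · rw [← hco x hx, ← hco y hy, hεp, hεp] at exy
      obtain ⟨e1, e2⟩ := Cfsg.Lib.Suz.pt_inj exy
      rw [← hco x hx, ← hco y hy, Prod.ext e1 e2]
  have hεb : ε b = pt m 0 0 := by
    have h0 := hεp 0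
    rwa [K.pt_zero C] at h0
  -- the three kinds of elements
  have hT : ∀ (p : F × F) x, ε (ι p • x) = T m p.1 p.2 • ε x := by
    intro p x
    by_cases hx : x = a
    · rw [hx, K.ι_a C, hεa, Cfsg.Lib.Suz.T_inf]
    · rw [← hco x hx, K.pt_star C, hεp, hεp, Cfsg.Lib.Suz.T_pt Q]
      simp only [star, hφ]
      congr 1 <;> ring
  have hH : ∀ (l : Fˣ) x, ε (κ l • x) = Cfsg.Lib.Suz.H m l • ε x := by
    intro l x
    by_cases hx : x = a
    · rw [hx, K.κ_a C, hεa, Cfsg.Lib.Suz.H_inf]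
    · rw [← hco x hx, K.pt_act C, hεp, hεp, Cfsg.Lib.Suz.H_pt Q]
      simp only [act, psi, hφ, pow_succ]
      congr 1
      ring
  have hW : ∀ x, ε (w • x) = W F • ε x := by
    intro x
    by_cases hx : x = a
    · rw [hx, hwa, hεb, hεa, Cfsg.Lib.Suz.W_inf m]
    · rw [← hco x hx, hεp]
      by_cases hp : co x = 0
      · rw [hp, K.pt_zero C, hwb, hεa]
        exact (Cfsg.Lib.Suz.W_zero m).symm
      · rw [hfp _ hp, hεp, hf _ hp, ← W_target Q hp]
  have key : ∀ g : G, ∃ s : Cfsg.Sz F m, ∀ x, ε (g • x) = (s : SL4 F) • ε x := by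
    let L : Subgroup G :=
      { carrier := {g | ∃ s : Cfsg.Sz F m, ∀ x, ε (g • x) = (s : SL4 F) • ε x}
        one_mem' := ⟨1, fun x => by simp⟩
        mul_mem' := fun {g g'} ⟨s, hs⟩ ⟨s', hs'⟩ => ⟨s * s', fun x => by rw [mul_smul, hs, hs', ← mul_smul]; rfl⟩
        inv_mem' := fun {g} ⟨s, hs⟩ => ⟨s⁻¹, fun x => by
          rw [Subgroup.coe_inv, eq_inv_smul_iff, ← hs, smul_inv_smul]⟩ }
    have hι : ∀ p, ι p ∈ L := fun p => ⟨⟨_, Cfsg.Lib.Suz.T_mem Q _ _⟩, hT p⟩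
    have hwL : w ∈ L := ⟨⟨_, Cfsg.Lib.Suz.W_mem Q⟩, hW⟩
    have hfix : ∀ g : G, g • a = a → g ∈ L := fun g hga => by
      obtain ⟨p, hp⟩ := K.pt_surj C (g • b) fun e' => C.hab (smul_left_cancel g (hga.trans e'.symm))
      obtain ⟨l, hl⟩ := K.κ_surj ((ι p)⁻¹ * g) ⟨by
          show ((ι p)⁻¹ * g) • a = a
          rw [mul_smul, hga, inv_smul_eq_iff, K.ι_a C], by
          show ((ι p)⁻¹ * g) • b = b
          rw [mul_smul, ← hp, inv_smul_smul]⟩
      rw [eq_inv_mul_iff_mul_eq] at hl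
      rw [← hl]
      exact L.mul_mem (hι p) ⟨⟨_, Cfsg.Lib.Suz.H_mem Q l⟩, hH l⟩
    intro g
    show g ∈ L
    by_cases hga : g • a = a
    · exact hfix g hga
    · obtain ⟨p, hp⟩ := K.pt_surj C (g • a) hga
      have h1 : w * (ι p)⁻¹ * g ∈ L := hfix _ (by rw [mul_smul, mul_smul, ← hp, inv_smul_smul, hwb])
      have h2 := L.mul_mem (L.mul_mem (hι p) (L.inv_mem hwL)) h1
      rwa [show ι p * w⁻¹ * (w * (ι p)⁻¹ * g) = g by group] at h2
  choose Φ hΦ using key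
  have huniq : ∀ s s' : Cfsg.Sz F m, (∀ x, (s : SL4 F) • ε x = (s' : SL4 F) • ε x) → s = s' := by
    intro s s' hss
    have h1 : ∀ x, ((s' : SL4 F)⁻¹ * (s : SL4 F)) • ε x = ε x := fun x => by
      rw [mul_smul, hss, inv_smul_smul]
    have h2 := eq_one_of_fix Q (mul_mem (inv_mem s'.2) s.2) (hεa ▸ h1 a) (hεb ▸ h1 b)
      (hεp ((1 : F), (0 : F)) ▸ h1 _)
    exact Subtype.ext (inv_mul_eq_one.mp h2).symm
  let Ψ : G →* Cfsg.Sz F m :=
    { toFun := Φ
      map_one' := huniq _ _ fun x => by rw [← hΦ]; simp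
      map_mul' := fun g g' => huniq _ _ fun x => by rw [← hΦ, mul_smul, hΦ, hΦ, ← mul_smul]; rfl }
  haveI := C.hZ.1
  have hinjΨ : Function.Injective Ψ := fun g g' e' => FaithfulSMul.eq_of_smul_eq_smul (α := Ω) fun x => hεinj (by
    rw [hΦ, hΦ]
    exact congrArg (fun s : Cfsg.Sz F m => (s : SL4 F) • ε x) e')
  have hsurjΨ : Function.Surjective Ψ := by
    have hle : Cfsg.Sz F m ≤ Ψ.range.map (Cfsg.Sz F m).subtype := by
      refine Cfsg.Lib.Suz.Sz_le Q (fun x y => ?_) (fun l => ?_) ?_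
      · exact ⟨_, ⟨ι (x, y), rfl⟩, congrArg Subtype.val (huniq (Φ (ι (x, y))) ⟨_, Cfsg.Lib.Suz.T_mem Q x y⟩
          fun z => (hΦ _ z).symm.trans (hT (x, y) z))⟩
      · exact ⟨_, ⟨κ l, rfl⟩, congrArg Subtype.val (huniq (Φ (κ l)) ⟨_, Cfsg.Lib.Suz.H_mem Q l⟩
          fun z => (hΦ _ z).symm.trans (hH l z))⟩
      · exact ⟨_, ⟨w, rfl⟩, congrArg Subtype.val (huniq (Φ w) ⟨_, Cfsg.Lib.Suz.W_mem Q⟩
          fun z => (hΦ _ z).symm.trans (hW z))⟩
    intro s
    obtain ⟨s', ⟨g, hg⟩, hs'⟩ := hle s.2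
    exact ⟨g, hg.trans (Subtype.ext hs')⟩
  exact ⟨(MulEquiv.ofBijective Ψ ⟨hinjΨ, hsurjΨ⟩).trans (Cfsg.Lib.Suz.lieEquiv Q)⟩

end Cfsg.Lib.SuzukiUnique
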