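import Mathlib.FieldTheory.Finite.Basic
import Mathlib.Algebra.CharP.Two
import Mathlib.Tactic

/-!
# The permutation attached to a swapping involution of a Suzuki type Zassenhaus group

The kernel is written on pairs with the product `(x, y) (x', y') = (x + x', y + y' + φ(x) x')`, the two-point
stabiliser acts by `l : (x, y) ↦ (l x, l φ(l) y)`, and the swapping involution is a map `f` of the non-zero
pairs. Its relations determine `φ` and `f`.
-/

set_option autoImplicit false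
set_option linter.unusedSectionVars false

namespace Cfsg.Lib.SuzukiUnique

variable {F : Type*} [Field F] [Fintype F] [CharP F 2] (φ : F ≃+* F)

/-- the product of pairs -/
def star (p q : F × F) : F × F := (p.1 + q.1, p.2 + q.2 + φ p.1 * q.1)

/-- the multiplicative map -/
def psi (x : F) : F := x * φ x

/-- the diagonal action -/
def act (l : F) (p : F × F) : F × F := (l * p.1, psi φ l * p.2)

/-- the inverse of a pair -/
def pinv (p : F × F) : F × F := (p.1, p.2 + psi φ p.1)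

variable {φ}

theorem star_mk (a b c d : F) : star φ (a, b) (c, d) = (a + c, b + d + φ a * c) := rfl

theorem act_mk (l a b : F) : act φ l (a, b) = (l * a, psi φ l * b) := rfl

theorem psi_mul (a b : F) : psi φ (a * b) = psi φ a * psi φ b := by
  simp [psi, map_mul]; ring

theorem psi_one : psi φ 1 = 1 := by simp [psi]

theorem psi_zero : psi φ 0 = 0 := by simp [psi]

theorem psi_inv (a : F) : psi φ a⁻¹ = (psi φ a)⁻¹ := by simp [psi, map_inv₀]; ring

theorem psi_ne_zero {a : F} (ha : a ≠ 0) : psi φ a ≠ 0 := mul_ne_zero ha ((map_ne_zero φ).2 ha)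

theorem psi_eq_zero {a : F} (h : psi φ a = 0) : a = 0 := by
  by_contra ha
  exact psi_ne_zero ha h

theorem act_act (a b : F) (p : F × F) : act φ a (act φ b p) = act φ (a * b) p := by
  simp [act, psi_mul, mul_assoc]

theorem act_one (p : F × F) : act φ 1 p = p := by simp [act, psi_one]

theorem act_star (l : F) (p q : F × F) : act φ l (star φ p q) = star φ (act φ l p) (act φ l q) := by
  simp only [act, star, psi, map_mul, Prod.mk.injEq]
  constructor <;> ring

theorem act_ne_zero {l : F} (hl : l ≠ 0) {p : F × F} (hp : p ≠ 0) : act φ l p ≠ 0 := fun h => hp (by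
  have h1 : l⁻¹ * l = 1 := inv_mul_cancel₀ hl
  rw [← act_one (φ := φ) p, ← h1, ← act_act, h]
  simp [act])

theorem star_assoc (p q r : F × F) : star φ (star φ p q) r = star φ p (star φ q r) := by
  simp only [star, map_add, Prod.mk.injEq]
  constructor <;> ring

theorem pinv_star (p : F × F) : star φ (pinv φ p) p = 0 := by
  simp only [star, pinv, psi, Prod.ext_iff, Prod.fst_zero, Prod.snd_zero]
  exact ⟨CharTwo.add_self_eq_zero _, by grind⟩

theorem star_pinv (p : F × F) : star φ p (pinv φ p) = 0 := by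
  simp only [star, pinv, psi, Prod.ext_iff, Prod.fst_zero, Prod.snd_zero]
  exact ⟨CharTwo.add_self_eq_zero _, by grind⟩

theorem star_zero_left (p : F × F) : star φ 0 p = p := by simp [star]

theorem star_left_cancel {p q r : F × F} (h : star φ p q = star φ p r) : q = r := by
  rw [← star_zero_left (φ := φ) q, ← pinv_star p, star_assoc, h, ← star_assoc, pinv_star, star_zero_left]

theorem star_z (a b : F) : star φ ((0 : F), (1 : F)) (a, b) = (a, b + 1) := by
  simp [star, add_comm]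

theorem pinv_one (β : F) : pinv φ ((1 : F), β) = (1, β + 1) := by simp [pinv, psi]

section Algebra

variable {A B C t r X Y β c : F}

theorem alg_r (h : r * (1 + (1 + A) + (1 + B)) = (1 + (1 + A)) * (1 + (1 + B))) : r * (1 + A + B) = A * B := by
  grind

theorem alg_phi (h : (1 + A + B) ^ 2 * (1 + B + C) = (1 + A ^ 2 + B) * (1 + B ^ 2 + C)) :
    (B * (1 + B)) * (C + A ^ 2) = 0 := by
  grind

theorem alg_eqn (h : (β * A + (β + 1) * B) * (1 + A) ^ 2 * (1 + B) *
      (β * (1 + A + B + (1 + A) * (1 + B)) + (1 + A + B) + (1 + A + B) * t) =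
    A * B *
      (β * (1 + A) ^ 2 * (1 + B) * (1 + A + B) +
          ((1 + A) * (β * (1 + A + B + A * B) + (1 + A + B)) + A * (1 + A + B) * t) +
        (1 + B) * (1 + A + B) * (1 + A + A * t))) :
    A * B * (β * (1 + A) ^ 2 * (1 + B) * (A + B) + B * (1 + A + B) * (1 + A + A * t)) +
        (1 + A) ^ 2 * (1 + B) * (β * A + (β + 1) * B) * (β * A * B + (1 + A + B) * (1 + t)) = 0 := by
  grind

theorem alg_sum (e1 : c * (A + B) + B * Y + (β * A + (β + 1) * B) * (c + X) = 0)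
    (e2 : c * (A + B) + (1 + B) * X + (β * (1 + A) + (β + 1) * (1 + B)) * (c + Y) = 0) :
    (β * (A + B) + 1) * (X + Y) = c := by
  grind

theorem alg_mid (e1 : c * (A + B) + B * Y + (β * A + (β + 1) * B) * (c + X) = 0) (hc : c * (1 + A + B) = β)
    (hsum : (β * (A + B) + 1) * (X + Y) = c) :
    β * (A + B) * ((β + 1) * (β * (A + B) + 1) + B * β + (1 + A + B) * X * (β * (A + B) + 1)) = 0 := by
  grind

theorem alg_quad (e3 : (β + 1) * (β * (A + B) + 1) + B * β + (1 + A + B) * X * (β * (A + B) + 1) = 0)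
    (hY : Y * ((1 + A) ^ 2 * (1 + B)) = 1 + A + t * A) (hX : X * (A * B) = 1 + t)
    (hsum : (β * (A + B) + 1) * (X + Y) = c) (hc : c * (1 + A + B) = β) :
    β ^ 2 * ((A + B) * (1 + A ^ 2 + B)) + β * ((A + B) * (A + A ^ 2) + B + B ^ 2) + (A + A ^ 2) = 0 := by
  have h1 : (β * (A + B) + 1) * X * (1 + A ^ 2 + B) =
      (β * (A + B) + 1) + c * ((1 + A) ^ 2 * (1 + B)) := by
    clear e3 hc
    grind
  have h2 : ((β + 1) * (β * (A + B) + 1) + B * β) * (1 + A ^ 2 + B) =
      (1 + A + B) * (β * (A + B) + 1) + β * ((1 + A) ^ 2 * (1 + B)) := by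
    clear hY hX hsum
    grind
  clear e3 hY hX hsum hc h1
  grind

end Algebra

variable (φ)

/-- The relations of the swapping map, with the parameters `β` and `k`. -/
structure Rel (f : F × F → F × F) (β k : F) : Prop where
  inj : ∀ x : F, psi φ x = 1 → x = 1
  k_ne : k ≠ 0
  ne_zero : ∀ p, p ≠ 0 → f p ≠ 0
  invol : ∀ p, p ≠ 0 → f (f p) = p
  equiv : ∀ l p, l ≠ 0 → p ≠ 0 → f (act φ l p) = act φ l⁻¹ (f p)
  fz : f (0, 1) = (1, β)
  rel : ∀ p, p ≠ 0 → p ≠ (1, β) →
    f (star φ (0, 1) (f p)) = star φ (1, β) (act φ k (f (star φ (pinv φ (1, β)) p)))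

variable {φ}

namespace Rel

variable {f : F × F → F × F} {β k : F}

theorem psi_inj (h : Rel φ f β k) {a b : F} (e : psi φ a = psi φ b) : a = b := by
  by_cases hb : b = 0
  · subst hb
    exact psi_eq_zero (e.trans psi_zero)
  have := h.inj (a * b⁻¹) (by rw [psi_mul, psi_inv, e, mul_inv_cancel₀ (psi_ne_zero hb)])
  rwa [mul_inv_eq_one₀ hb] at this

theorem psi_surj (h : Rel φ f β k) (y : F) : ∃ x, psi φ x = y :=
  Finite.surjective_of_injective (fun _ _ e => h.psi_inj e) y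

omit [Fintype F] in
theorem z_ne : ((0 : F), (1 : F)) ≠ 0 := fun e => one_ne_zero (congrArg Prod.snd e)

omit [Fintype F] in
theorem one_ne (a : F) : ((1 : F), a) ≠ 0 := fun e => one_ne_zero (congrArg Prod.fst e)

omit [Fintype F] in
theorem fst_ne_zero {p : F × F} (hp : p.1 ≠ 0) : p ≠ 0 := fun e => hp (by rw [e]; rfl)

theorem fc (h : Rel φ f β k) : f (1, β) = (0, 1) := by
  rw [← h.fz, h.invol _ z_ne]

theorem fc_inv (h : Rel φ f β k) : f (1, β + 1) = (1, β + psi φ k) := by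
  have := h.rel (0, 1) z_ne (fun e => zero_ne_one (congrArg Prod.fst e))
  have e : star φ ((1 : F), β + 1) (0, 1) = (1, β) := by simp [star, add_assoc, CharTwo.add_self_eq_zero]
  rw [h.fz, pinv_one, star_z, e, h.fc, act_mk, star_mk, map_one] at this
  rw [this]
  simp

theorem k_eq_one (h : Rel φ f β k) : k = 1 := by
  have hk := h.k_ne
  -- conjugate the relation by the parameter
  have e2 := h.rel (1, β + 1) (one_ne _) (fun e => one_ne_zero (α := F) (by
    have := congrArg Prod.snd e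
    simpa using this))
  have e : star φ ((1 : F), β + 1) (1, β + 1) = (0, 1) := by
    simp [star, CharTwo.add_self_eq_zero]
  rw [h.fc_inv, pinv_one, star_z, e, show β + psi φ k + 1 = β + 1 + psi φ k by ring, h.fz, act_mk, star_mk,
    mul_one, map_one] at e2
  have hp : act φ k ((0 : F), (1 : F)) ≠ 0 := act_ne_zero hk z_ne
  have hfp : f (act φ k (0, 1)) = act φ k⁻¹ (1, β) := by rw [h.equiv k _ hk z_ne, h.fz]
  have e3 := h.rel (act φ k (0, 1)) hp (fun e => zero_ne_one (α := F) (by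
    have := congrArg Prod.fst e
    simpa [act] using this))
  have e4 : star φ ((0 : F), 1) (act φ k⁻¹ (1, β)) = act φ k⁻¹ (1, β + psi φ k) := by
    simp only [act_mk, star_mk, map_zero, zero_mul, add_zero, zero_add, mul_one, psi_inv, mul_add,
      inv_mul_cancel₀ (psi_ne_zero hk)]
    rw [add_comm]
  have e5 : f (1, β + psi φ k) = (1, β + 1) := by rw [← h.fc_inv, h.invol _ (one_ne _)]
  rw [hfp, e4, h.equiv _ _ (inv_ne_zero hk) (one_ne _), inv_inv, e5, pinv_one, act_mk k 0 1,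
    mul_zero, mul_one] at e3
  simp only [star_mk, map_one, mul_zero, add_zero, e2, act_mk] at e3
  have e6 := congrArg Prod.fst e3
  simp only [mul_one] at e6
  have e7 : (k + 1) * (k + 1) = 0 := by grind
  have := mul_self_eq_zero.1 e7
  exact CharTwo.add_eq_zero.1 this

theorem rel' (h : Rel φ f β k) (p : F × F) (hp : p ≠ 0) (hpc : p ≠ (1, β)) :
    f (star φ (0, 1) (f p)) = star φ (1, β) (f (star φ (1, β + 1) p)) := by
  rw [h.rel p hp hpc, pinv_one, h.k_eq_one, act_one]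

theorem fc_inv' (h : Rel φ f β k) : f (1, β + 1) = (1, β + 1) := by
  rw [h.fc_inv, h.k_eq_one, psi_one]

/-- the pair `(1 + s, ·)` -/
def u (φ : F ≃+* F) (β s : F) : F × F := (1 + s, β * (1 + psi φ s) + 1 + s)

theorem u_eq (β s : F) : star φ ((1 : F), β + 1) (act φ s (1, β)) = u φ β s := by
  simp only [act_mk, star_mk, map_one, u, Prod.mk.injEq, mul_one]
  exact ⟨trivial, by ring⟩

theorem fam (h : Rel φ f β k) {s t : F} (hs : s ≠ 0) (hs1 : s ≠ 1) (ht : t ≠ 0)
    (e : psi φ t⁻¹ = 1 + psi φ s⁻¹) : f (u φ β s) = u φ β t := by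
  have hne : act φ s ((1 : F), β) ≠ 0 := act_ne_zero hs (one_ne _)
  have h1 := h.rel' _ hne (fun e' => hs1 (by
    have := congrArg Prod.fst e'
    simpa [act] using this))
  have h2 : star φ ((0 : F), 1) (f (act φ s (1, β))) = act φ t⁻¹ (0, 1) := by
    rw [h.equiv s _ hs (one_ne _), h.fc]
    simp only [act_mk, star_mk, map_zero, mul_zero, add_zero, zero_mul, mul_one, zero_add, e]
  rw [h2, h.equiv _ _ (inv_ne_zero ht) z_ne, inv_inv, h.fz, u_eq] at h1
  refine star_left_cancel (p := ((1 : F), β)) (h1.symm.trans ?_)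
  rw [← u_eq, ← star_assoc, ← pinv_one (φ := φ) β, star_pinv, star_zero_left]

/-- `t` attached to `A`: the equation it satisfies -/
def IsT (φ : F ≃+* F) (A t : F) : Prop := t * φ t * (1 + A + φ A) = (1 + A) * (1 + φ A)

theorem den_ne (h : Rel φ f β k) (A : F) : 1 + A + φ A ≠ 0 := fun e => by
  have : psi φ (1 + A) = psi φ A := by
    simp only [psi, map_add, map_one]
    grind
  have := h.psi_inj this
  simp at this

theorem exists_t (h : Rel φ f β k) (A : F) : ∃ t, IsT φ A t := by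
  obtain ⟨t, ht⟩ := h.psi_surj ((1 + A) * (1 + φ A) / (1 + A + φ A))
  exact ⟨t, by unfold IsT; rw [show t * φ t = psi φ t from rfl, ht, div_mul_cancel₀ _ (h.den_ne A)]⟩

theorem t_ne (h : Rel φ f β k) {A t : F} (hA : A ≠ 0) (hA1 : 1 + A ≠ 0) (ht : IsT φ A t) : t ≠ 0 ∧ 1 + t ≠ 0 := by
  have hB : φ A ≠ 0 := (map_ne_zero φ).2 hA
  have hB1 : 1 + φ A ≠ 0 := by rw [← map_one φ, ← map_add]; exact (map_ne_zero φ).2 hA1
  unfold IsT at ht
  refine ⟨fun e => ?_, fun e => ?_⟩
  · rw [e, zero_mul, zero_mul] at ht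
    exact mul_ne_zero hA1 hB1 ht.symm
  · rw [← CharTwo.add_eq_zero.1 e, map_one] at ht
    exact mul_ne_zero hA hB (by grind)

/-- the values on the pairs `(1, β + P)` -/
theorem f_one (h : Rel φ f β k) {A t : F} (hA : A ≠ 0) (hA1 : 1 + A ≠ 0) (ht : IsT φ A t) :
    f (1, β + (β * A + (β + 1) * φ A)) = act φ A⁻¹ (u φ β t) := by
  have hB : φ A ≠ 0 := (map_ne_zero φ).2 hA
  have hB1 : 1 + φ A ≠ 0 := by rw [← map_one φ, ← map_add]; exact (map_ne_zero φ).2 hA1
  obtain ⟨ht0, -⟩ := h.t_ne hA hA1 ht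
  set s := (1 + A) * A⁻¹ with hs
  have hs0 : s ≠ 0 := mul_ne_zero hA1 (inv_ne_zero hA)
  have hs1 : s ≠ 1 := fun e => by
    rw [hs, mul_inv_eq_one₀ hA] at e
    simp at e
  have hpsi : psi φ t⁻¹ = 1 + psi φ s⁻¹ := by
    unfold IsT at ht
    have hφt : φ t ≠ 0 := (map_ne_zero φ).2 ht0
    simp only [hs, psi, map_inv₀, map_mul, map_add, map_one]
    field_simp
    grind
  have hu : u φ β s = act φ A⁻¹ (1, β + (β * A + (β + 1) * φ A)) := by
    simp only [u, act_mk, hs, psi, map_inv₀, map_mul, map_add, map_one, Prod.mk.injEq, mul_one]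
    constructor
    · field_simp
      grind
    · field_simp
      grind
  have := h.fam hs0 hs1 ht0 hpsi
  rw [hu, h.equiv _ _ (inv_ne_zero hA) (one_ne _), inv_inv] at this
  rw [← this, act_act, inv_mul_cancel₀ hA, act_one]

/-- the main equation -/
theorem eqn (h : Rel φ f β k) {A t : F} (hA : A ≠ 0) (hA1 : 1 + A ≠ 0) (ht : IsT φ A t) :
    β * (A + φ A) / (1 + A + φ A) + φ A * ((1 + A + t * A) / ((1 + A) ^ 2 * (1 + φ A))) +
      (β * A + (β + 1) * φ A) * (β / (1 + A + φ A) + (1 + t) / (A * φ A)) = 0 := by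
  have hB : φ A ≠ 0 := (map_ne_zero φ).2 hA
  have hB1 : 1 + φ A ≠ 0 := by rw [← map_one φ, ← map_add]; exact (map_ne_zero φ).2 hA1
  have hD := h.den_ne A
  obtain ⟨ht0, ht1⟩ := h.t_ne hA hA1 ht
  set P := β * A + (β + 1) * φ A with hP
  have hP0 : P ≠ 0 := fun e => by
    have h1 := h.f_one hA hA1 ht
    rw [← hP, e, add_zero, h.fc, u, act_mk] at h1
    exact mul_ne_zero (inv_ne_zero hA) ht1 (congrArg Prod.fst h1).symm
  obtain ⟨τ, hτ⟩ := h.psi_surj P
  have hτ0 : τ ≠ 0 := fun e => hP0 (by rw [← hτ, e, psi_zero])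
  -- the second parameter
  set r := t * A * (1 + A)⁻¹ with hr
  have hr' : IsT φ (1 + A) r := by
    unfold IsT at ht ⊢
    simp only [hr, map_mul, map_inv₀, map_add, map_one]
    field_simp
    grind
  have hA' : 1 + (1 + A) ≠ 0 := by rwa [← add_assoc, CharTwo.add_self_eq_zero, zero_add]
  have hP' : β * (1 + A) + (β + 1) * φ (1 + A) = P + 1 := by
    rw [hP, map_add, map_one]
    grind
  have key := h.rel' (act φ τ (0, 1)) (act_ne_zero hτ0 z_ne) (fun e => zero_ne_one (α := F) (by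
    have := congrArg Prod.fst e
    simpa [act] using this))
  have h1 : star φ ((0 : F), 1) (f (act φ τ (0, 1))) = act φ τ⁻¹ (1, β + P) := by
    rw [h.equiv τ _ hτ0 z_ne, h.fz]
    simp only [act_mk, star_mk, map_zero, zero_mul, add_zero, zero_add, psi_inv, hτ, Prod.mk.injEq, true_and]
    field_simp
    ring
  have h2 : star φ ((1 : F), β + 1) (act φ τ (0, 1)) = (1, β + (P + 1)) := by
    simp only [act_mk, star_mk, hτ, map_one, mul_zero, add_zero, mul_one, Prod.mk.injEq, true_and]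
    ring
  have hf := h.f_one hA hA1 ht
  rw [← hP] at hf
  rw [h1, h.equiv _ _ (inv_ne_zero hτ0) (one_ne _), inv_inv, hf, h2, ← hP',
    h.f_one hA1 hA' hr', act_act] at key
  have h3 := congrArg Prod.snd key
  simp only [u, act_mk, star_mk, psi_mul, psi_inv, hτ, map_one, one_mul] at h3
  have et : psi φ t = (1 + A) * (1 + φ A) / (1 + A + φ A) := (eq_div_iff hD).2 ht
  have er : psi φ r = A * φ A / (1 + A + φ A) := by
    refine (eq_div_iff hD).2 ?_
    unfold IsT at hr'
    simp only [map_add, map_one] at hr'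
    exact alg_r hr'
  rw [et, er, show psi φ A = A * φ A from rfl, show psi φ (1 + A) = (1 + A) * φ (1 + A) from rfl, map_add,
    map_one, hr, hP] at h3
  field_simp at h3 ⊢
  rw [hP, mul_zero]
  exact alg_eqn h3

/-- the quadratic equation for `β` -/
theorem quad (h : Rel φ f β k) {A : F} (hA : A ≠ 0) (hA1 : 1 + A ≠ 0) (hne : A + φ A ≠ 0) :
    β = 0 ∨ β ^ 2 * ((A + φ A) * (1 + A ^ 2 + φ A)) + β * ((A + φ A) * (A + A ^ 2) + φ A + φ A ^ 2) +
      (A + A ^ 2) = 0 := by
  have hB : φ A ≠ 0 := (map_ne_zero φ).2 hA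
  have hB1 : 1 + φ A ≠ 0 := by rw [← map_one φ, ← map_add]; exact (map_ne_zero φ).2 hA1
  have hD := h.den_ne A
  obtain ⟨t, ht⟩ := h.exists_t A
  have hA' : 1 + (1 + A) ≠ 0 := by rwa [← add_assoc, CharTwo.add_self_eq_zero, zero_add]
  have hr' : IsT φ (1 + A) (t * A * (1 + A)⁻¹) := by
    unfold IsT at ht ⊢
    simp only [map_mul, map_inv₀, map_add, map_one]
    field_simp
    grind
  have e1 := h.eqn hA hA1 ht
  have e2 := h.eqn hA1 hA' hr'
  simp only [map_add, map_one] at e2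
  generalize φ A = B at *
  set X := (1 + t) / (A * B) with hX
  set Y := (1 + A + t * A) / ((1 + A) ^ 2 * (1 + B)) with hY
  rw [show (1 + (1 + A) + t * A * (1 + A)⁻¹ * (1 + A)) / ((1 + (1 + A)) ^ 2 * (1 + (1 + B))) = X by
      rw [hX, show 1 + (1 + A) = A by grind, show 1 + (1 + B) = B by grind]
      field_simp,
    show (1 + t * A * (1 + A)⁻¹) / ((1 + A) * (1 + B)) = Y by rw [hY]; field_simp,
    show 1 + (1 + A) + (1 + B) = 1 + A + B by grind, show 1 + A + (1 + B) = A + B by grind] at e2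
  set D := 1 + A + B
  set w := β * (A + B) + 1
  have hsum : w * (X + Y) = β / D := by
    rw [mul_div_right_comm] at e1 e2
    exact alg_sum e1 e2
  by_cases hβ : β = 0
  · exact Or.inl hβ
  right
  have hw : w ≠ 0 := fun e => by
    rw [e, zero_mul] at hsum
    exact hβ ((div_eq_zero_iff.1 hsum.symm).resolve_right hD)
  have hYeq : Y * ((1 + A) ^ 2 * (1 + B)) = 1 + A + t * A := div_mul_cancel₀ _ (mul_ne_zero (pow_ne_zero 2 hA1) hB1)
  have hXeq : X * (A * B) = 1 + t := div_mul_cancel₀ _ (mul_ne_zero hA hB)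
  obtain ⟨c, hc⟩ : ∃ c, c * D = β := ⟨β / D, div_mul_cancel₀ _ hD⟩
  have hcd : β / D = c := by rw [← hc, mul_div_assoc, div_self hD, mul_one]
  rw [mul_div_right_comm, hcd] at e1
  rw [hcd] at hsum
  exact alg_quad ((mul_eq_zero.1 (alg_mid e1 hc hsum)).resolve_left (mul_ne_zero hβ hne)) hYeq hXeq hsum hc

theorem beta_cases (h : Rel φ f β k) (hφ : φ ≠ RingEquiv.refl F) (hodd : Fintype.card F % 3 = 2) :
    β = 0 ∨ β = 1 := by
  obtain ⟨A₀, hA₀⟩ : ∃ A, φ A ≠ A := by
    by_contra hno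
    push Not at hno
    exact hφ (RingEquiv.ext hno)
  by_contra hβ
  push Not at hβ
  obtain ⟨hβ0, hβ1⟩ := hβ
  let fr : F ≃+* F := frobeniusEquiv F 2
  have hfr : ∀ x, fr x = x ^ 2 := fun x => frobeniusEquiv_apply F 2 x
  have hcomm : ∀ x, φ (x ^ 2) = φ x ^ 2 := fun x => map_pow φ x 2
  set Q : F → F → F := fun A b => b ^ 2 * ((A + φ A) * (1 + A ^ 2 + φ A)) +
    b * ((A + φ A) * (A + A ^ 2) + φ A + φ A ^ 2) + (A + A ^ 2) with hQ
  have hgood : ∀ A, φ A ≠ A → A ≠ 0 ∧ 1 + A ≠ 0 ∧ A + φ A ≠ 0 := fun A hA =>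
    ⟨fun e => hA (by rw [e, map_zero]), fun e => hA (by rw [← CharTwo.add_eq_zero.1 e, map_one]),
      fun e => hA (CharTwo.add_eq_zero.1 e).symm⟩
  have h0 : ∀ A, φ A ≠ A → Q A β = 0 := fun A hA =>
    (h.quad (hgood A hA).1 (hgood A hA).2.1 (hgood A hA).2.2).resolve_left hβ0
  have hstep : ∀ b, (∀ A, φ A ≠ A → Q A b = 0) → ∀ A, φ A ≠ A → Q A (b ^ 2) = 0 := by
    intro b hb A hA
    obtain ⟨a, rfl⟩ := fr.surjective A
    have ha : φ a ≠ a := fun e => hA (by rw [hfr, hcomm, e])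
    have := congrArg fr (hb a ha)
    rw [map_zero] at this
    rw [← this]
    simp only [hQ, hfr, hcomm, CharTwo.add_sq, mul_pow, one_pow]
  have hr1 := hstep β h0
  have hr2 := hstep _ hr1
  have e1 := h0 A₀ hA₀
  have e2 := hr1 A₀ hA₀
  have e3 := hr2 A₀ hA₀
  simp only [hQ] at e1 e2 e3
  obtain ⟨hA, hA1, hAφ⟩ := hgood A₀ hA₀
  have hN : A₀ + A₀ ^ 2 ≠ 0 := by
    rw [show A₀ + A₀ ^ 2 = A₀ * (1 + A₀) by ring]
    exact mul_ne_zero hA hA1
  generalize (A₀ + φ A₀) * (1 + A₀ ^ 2 + φ A₀) = L at e1 e2 e3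
  generalize (A₀ + φ A₀) * (A₀ + A₀ ^ 2) + φ A₀ + φ A₀ ^ 2 = M at e1 e2 e3
  generalize A₀ + A₀ ^ 2 = N at e1 e2 e3 hN
  have d12 : β + β ^ 2 ≠ 0 := by
    rw [show β + β ^ 2 = β * (1 + β) by ring]
    exact mul_ne_zero hβ0 fun e => hβ1 (CharTwo.add_eq_zero.1 e).symm
  have d23 : β ^ 2 + (β ^ 2) ^ 2 ≠ 0 := by
    rw [← CharTwo.add_sq]
    exact pow_ne_zero _ d12
  have d13 : β + (β ^ 2) ^ 2 ≠ 0 := fun e => by
    have h4 : β ^ 3 = 1 := by
      refine mul_left_cancel₀ hβ0 ?_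
      rw [mul_one]
      grind
    have hq := FiniteField.pow_card β
    rw [← Nat.div_add_mod (Fintype.card F) 3, hodd, pow_add, pow_mul, h4, one_pow, one_mul] at hq
    exact d12 (by rw [hq]; exact CharTwo.add_self_eq_zero β)
  have f1 : L * (β + β ^ 2) + M = 0 := by
    refine (mul_eq_zero.1 ?_).resolve_left d12
    grind
  have f2 : L * (β + (β ^ 2) ^ 2) + M = 0 := by
    refine (mul_eq_zero.1 ?_).resolve_left d13
    grind
  have f3 : L = 0 := by
    refine (mul_eq_zero.1 ?_).resolve_right d23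
    grind
  rw [f3, zero_mul, zero_add] at f1
  rw [f3, f1] at e1
  exact hN (by simpa using e1)

theorem phi_sq (h : Rel φ f 0 k) (A : F) : φ (φ A) = A ^ 2 := by
  by_cases hA : A = 0
  · subst hA; simp
  by_cases hA1 : 1 + A = 0
  · rw [← CharTwo.add_eq_zero.1 hA1]; simp
  have hB : φ A ≠ 0 := (map_ne_zero φ).2 hA
  have hB1 : 1 + φ A ≠ 0 := by rw [← map_one φ, ← map_add]; exact (map_ne_zero φ).2 hA1
  have hD := h.den_ne A
  obtain ⟨t, ht⟩ := h.exists_t A
  have hA' : 1 + (1 + A) ≠ 0 := by rwa [← add_assoc, CharTwo.add_self_eq_zero, zero_add]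
  have e1 := h.eqn hA hA1 ht
  simp only [zero_mul, zero_div, zero_add] at e1
  have e2 : (1 + t) * (1 + A ^ 2 + φ A) = A * φ A := by
    field_simp at e1
    grind
  have hR : 1 + A ^ 2 + φ A ≠ 0 := fun e => by
    rw [e, mul_zero] at e2
    exact mul_ne_zero hA hB e2.symm
  have e3 : t * (1 + A ^ 2 + φ A) = (1 + A) * (1 + A + φ A) := by grind
  have e4 := congrArg φ e3
  simp only [map_mul, map_add, map_one, map_pow] at e4
  unfold IsT at ht
  have hC1 : 1 + φ A ^ 2 + φ (φ A) ≠ 0 := by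
    have := (map_ne_zero φ).2 hR
    simpa [map_add, map_pow] using this
  have e5 : (1 + A) * (1 + A + φ A) * ((1 + φ A) * (1 + φ A + φ (φ A))) * (1 + A + φ A) =
      (1 + A) * (1 + φ A) * ((1 + A ^ 2 + φ A) * (1 + φ A ^ 2 + φ (φ A))) := by
    rw [← ht, ← e3, ← e4]
    ring
  have e6 : (1 + A + φ A) ^ 2 * (1 + φ A + φ (φ A)) = (1 + A ^ 2 + φ A) * (1 + φ A ^ 2 + φ (φ A)) := by
    refine mul_left_cancel₀ (mul_ne_zero hA1 hB1) ?_
    linear_combination e5
  have e7 := alg_phi e6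
  exact CharTwo.add_eq_zero.1 ((mul_eq_zero.1 e7).resolve_left (mul_ne_zero hB hB1))

/-- The relations determine the map. -/
theorem unique {g : F × F → F × F} {k' : F} (h : Rel φ f 0 k) (h' : Rel φ g 0 k') {p : F × F} (hp : p ≠ 0) :
    f p = g p := by
  obtain ⟨x, y⟩ := p
  by_cases hx : x = 0
  · subst hx
    have hy : y ≠ 0 := fun e => hp (by rw [e]; rfl)
    obtain ⟨l, rfl⟩ := h.psi_surj y
    have hl : l ≠ 0 := fun e => hy (by rw [e, psi_zero])
    rw [show ((0 : F), psi φ l) = act φ l (0, 1) by simp [act], h.equiv _ _ hl z_ne, h'.equiv _ _ hl z_ne, h.fz,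
      h'.fz]
  obtain ⟨N, rfl⟩ : ∃ N, psi φ x * N = y := ⟨(psi φ x)⁻¹ * y, mul_inv_cancel_left₀ (psi_ne_zero hx) y⟩
  rw [show (x, psi φ x * N) = act φ x (1, N) by simp [act], h.equiv _ _ hx (one_ne _), h'.equiv _ _ hx (one_ne _)]
  congr 1
  by_cases hN : N = 0
  · rw [hN, h.fc, h'.fc]
  by_cases hN1 : N = 1
  · subst hN1
    have e1 := h.fc_inv'
    have e2 := h'.fc_inv'
    rw [zero_add] at e1 e2
    rw [e1, e2]
  obtain ⟨A, rfl⟩ := φ.surjective N
  have hA : A ≠ 0 := fun e => hN (by rw [e, map_zero])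
  have hA1 : 1 + A ≠ 0 := fun e => hN1 (by rw [← CharTwo.add_eq_zero.1 e, map_one])
  obtain ⟨t, ht⟩ := h.exists_t A
  have e1 := h.f_one hA hA1 ht
  have e2 := h'.f_one hA hA1 ht
  simp only [zero_mul, zero_add, one_mul] at e1 e2
  rw [e1, e2]

end Rel

end Cfsg.Lib.SuzukiUnique
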