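import Cfsg.Agent.SuzukiTwo.TypeA
import Cfsg.Agent.SuzukiUnique.Model
import Cfsg.Agent.ZTGroups.Main

/-!
# Coordinates on the kernel of a Zassenhaus group of Suzuki type in which the two-point stabiliser is diagonal
-/

set_option autoImplicit false
set_option linter.unusedSectionVars false
set_option linter.style.haveILetI false
set_option maxHeartbeats 1600000

namespace Cfsg.Lib.SuzukiUnique

open scoped commutatorElement MatrixGroups
open Cfsg.Lib.SuzukiTwo
open Cfsg.Lib.OddChar.Zassenhaus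

universe u v

variable {G : Type u} {Ω : Type v} [Group G] [Finite G] [MulAction G Ω] [Fintype Ω] [IsSimpleGroup G]

/-- Coordinates on a kernel `H` and on a complement `E`. -/
structure Coords (H E : Subgroup G) (F : Type) [Field F] (φ : F ≃+* F) (ι : F × F → G) (κ : Fˣ →* G) : Prop where
  inj : ∀ x : F, psi φ x = 1 → x = 1
  ne_refl : φ ≠ RingEquiv.refl F
  odd : Odd (orderOf φ)
  ι_mem : ∀ p, ι p ∈ H
  ι_inj : Function.Injective ι
  ι_surj : ∀ u ∈ H, ∃ p, ι p = u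
  ι_mul : ∀ p q, ι (star φ p q) = ι p * ι q
  κ_mem : ∀ k, κ k ∈ E
  κ_inj : Function.Injective κ
  κ_surj : ∀ t ∈ E, ∃ k, κ k = t
  conj : ∀ (k : Fˣ) p, κ k * ι p * (κ k)⁻¹ = ι (act φ (k : F) p)

variable {a b : Ω} {H : Subgroup G} {h e : ℕ}

theorem exists_coords (C : Cfsg.Lib.ZTGroups.Core a b H h e) :
    ∃ (F : Type) (_ : Field F) (_ : Fintype F) (_ : CharP F 2) (φ : F ≃+* F) (ι : F × F → G) (κ : Fˣ →* G),
      Fintype.card F = e + 1 ∧ Coords H (stab₂ G a b) F φ ι κ := by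
  classical
  letI := Cfsg.Lib.ZTGroups.autCommGroup C
  let ρ : ↥(Cfsg.Lib.ZTGroups.autE C) →* MulAut ↥H := (Cfsg.Lib.ZTGroups.autE C).subtype
  have h : InvolTrans ρ := C.involTrans
  have h2 := C.p2
  have hnab := C.nab
  have htwo := C.exists_two_invol
  obtain ⟨nexp, -, -, hsq', hen⟩ := C.parameters
  have hcard : Nat.card ↥H = Nat.card (Subgroup.center ↥H) ^ 2 := by
    rw [C.card_center, hen, C.card_H, hsq']
  set Z := Subgroup.center ↥H with hZdef
  have hZ2 : ∀ z ∈ Z, z * z = 1 := center_sq_eq_one h2 h hnab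
  have hsq : ∀ x : ↥H, x * x ∈ Z := sq_mem_center h2 h hnab htwo
  have hcom : ∀ a b : ↥H, ⁅a, b⁆ ∈ Z := fun a b => by
    rw [comm_eq_squares]
    exact mul_mem (mul_mem (hsq a) (hsq _)) (hsq b⁻¹)
  obtain ⟨t₁, t₂, ht12, ht1, ht1', ht2, ht2'⟩ := htwo
  obtain ⟨F₁, j1, j2, j3, E₁, χ₁, hχ₁, hEadd₁, hE0₁, hEρ₁, hEsurj₁, hcardF₁⟩ := exists_coord h ht1 ht1'
  have hom : omega h = Z := le_antisymm (fun x hx => h.central x hx) fun z hz => hZ2 z hz
  rw [hom] at hcardF₁
  -- move the field to the smallest universe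
  obtain ⟨n, -, hn⟩ := FiniteField.card F₁ 2
  haveI : Fact (Nat.Prime 2) := ⟨Nat.prime_two⟩
  let F := GaloisField 2 (n : ℕ)
  letI : Fintype F := Fintype.ofFinite F
  have hFq : Fintype.card F = 2 ^ (n : ℕ) := by
    rw [← Nat.card_eq_fintype_card]
    exact GaloisField.card 2 (n : ℕ) n.pos.ne'
  have f : F₁ ≃+* F := FiniteField.ringEquivOfCardEq (by rw [hn, hFq])
  let E : ↥H → F := fun a => f (E₁ a)
  let χ : ↥(Cfsg.Lib.ZTGroups.autE C) →* F := (f : F₁ →* F).comp χ₁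
  have hχ : ∀ x : F, x ≠ 0 → ∃ k, χ k = x := fun x hx => by
    obtain ⟨k, hk⟩ := hχ₁ (f.symm x) ((map_ne_zero f.symm).mpr hx)
    exact ⟨k, by show f (χ₁ k) = x; rw [hk, f.apply_symm_apply]⟩
  have hEadd : ∀ a b, a * a = 1 → b * b = 1 → E (a * b) = E a + E b := fun a b ha hb => by
    show f _ = f _ + f _
    rw [hEadd₁ a b ha hb, map_add]
  have hE0 : ∀ a, a * a = 1 → E a = 0 → a = 1 := fun a ha e => hE0₁ a ha (f.injective (e.trans (map_zero f).symm))
  have hEρ : ∀ k a, a * a = 1 → E (ρ k a) = χ k * E a := fun k a ha => by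
    show f _ = f _ * f _
    rw [hEρ₁ k a ha, map_mul]
  have hEsurj : ∀ x : F, ∃ a, a * a = 1 ∧ E a = x := fun x => by
    obtain ⟨a, ha, e⟩ := hEsurj₁ (f.symm x)
    exact ⟨a, ha, by show f (E₁ a) = x; rw [e, f.apply_symm_apply]⟩
  have hcardF : Nat.card F = Nat.card Z := by rw [← Nat.card_congr f.toEquiv, hcardF₁]
  have hEZ : ∀ a ∈ Z, ∀ b ∈ Z, E (a * b) = E a + E b := fun a ha b hb => hEadd a b (hZ2 a ha) (hZ2 b hb)
  have hE1 : E 1 = 0 := by
    have := hEadd 1 1 (one_mul 1) (one_mul 1)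
    rw [one_mul] at this
    simpa using this
  -- the quadratic map
  let Qb : ↥H ⧸ Z → F := Quotient.lift (fun y => E (y * y)) fun a b hab => by
    have hz : a⁻¹ * b ∈ Z := QuotientGroup.leftRel_apply.mp hab
    show E (a * a) = E (b * b)
    rw [← mul_inv_cancel_left a b, mul_sq (by rw [comm_central hz]; exact one_mem _), comm_central hz, mul_one,
      hZ2 _ hz, mul_one]
  have hQ : ∀ y : ↥H, Qb (y : ↥H ⧸ Z) = E (y * y) := fun y => rfl
  have hβ : ∀ y z : ↥H, Qb ((y * z : ↥H) : ↥H ⧸ Z) = Qb (y : ↥H ⧸ Z) + Qb (z : ↥H ⧸ Z) + E ⁅z, y⁆ := fun y z => by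
    rw [hQ, hQ, hQ, mul_sq (hcom z y), hEZ _ (mul_mem (hsq y) (hsq z)) _ (hcom z y), hEZ _ (hsq y) _ (hsq z)]
  have hQ0 : ∀ u, Qb u = 0 → u = 1 := by
    intro u hu
    obtain ⟨y, rfl⟩ := QuotientGroup.mk_surjective u
    rw [hQ] at hu
    exact (QuotientGroup.eq_one_iff y).mpr (h.central y (hE0 _ (hZ2 _ (hsq y)) hu))
  have hQ1 : Qb 1 = 0 := by
    have := hQ 1
    rwa [one_mul, hE1] at this
  haveI : Fintype (↥H ⧸ Z) := Fintype.ofFinite _
  have hcardU : Nat.card (↥H ⧸ Z) = Fintype.card F := by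
    have h1 := Subgroup.card_eq_card_quotient_mul_card_subgroup Z
    rw [hcard, pow_two] at h1
    rw [← Nat.card_eq_fintype_card, hcardF]
    exact (Nat.eq_of_mul_eq_mul_right Nat.card_pos h1).symm
  -- the quotient as a field
  obtain ⟨g, hg⟩ := IsCyclic.exists_generator (α := Fˣ)
  obtain ⟨k₀, hk₀⟩ := hχ (g : F) g.ne_zero
  let σ : MulAut (↥H ⧸ Z) := quotAut ρ Z (fun k x hx => center_invariant ρ k hx) k₀
  have hσQ : ∀ u, Qb (σ u) = (g : F) * Qb u := by
    intro u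
    obtain ⟨y, rfl⟩ := QuotientGroup.mk_surjective u
    show Qb ((ρ k₀ y : ↥H) : ↥H ⧸ Z) = _
    rw [hQ, hQ, ← map_mul, hEρ k₀ _ (hZ2 _ (hsq y)), hk₀]
  have hσi : ∀ (i : ℕ) u, Qb ((σ ^ i) u) = (g : F) ^ i * Qb u := by
    intro i
    induction i with
    | zero => intro u; simp
    | succ i ih => intro u; rw [pow_succ', MulAut.mul_apply, hσQ, ih, pow_succ', mul_assoc]
  have horder : orderOf g = Fintype.card F - 1 := by
    rw [orderOf_eq_card_of_forall_mem_zpowers hg, Nat.card_units, Nat.card_eq_fintype_card]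
  haveI : Nontrivial (↥H ⧸ Z) := Finite.one_lt_card_iff_nontrivial.mp (hcardU ▸ Fintype.one_lt_card)
  obtain ⟨u₀, hu₀⟩ := exists_ne (1 : ↥H ⧸ Z)
  have hQu₀ : Qb u₀ ≠ 0 := fun e => hu₀ (hQ0 _ e)
  have horbit : ∀ u : ↥H ⧸ Z, u ≠ 1 → ∃ i : ℕ, (σ ^ i) u₀ = u := by
    let o : Fin (orderOf g) → {u : ↥H ⧸ Z // u ≠ 1} := fun i => ⟨(σ ^ (i : ℕ)) u₀, fun e => hu₀ (by
      simpa using congrArg (σ ^ (i : ℕ)).symm e)⟩
    have ho : Function.Injective o := fun i j e => by
      have h1 := congrArg (fun t : {u : ↥H ⧸ Z // u ≠ 1} => Qb t.1) e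
      simp only [o, hσi] at h1
      have h2 : g ^ (i : ℕ) = g ^ (j : ℕ) := Units.ext (by
        rw [Units.val_pow_eq_pow_val, Units.val_pow_eq_pow_val]
        exact mul_right_cancel₀ hQu₀ h1)
      exact Fin.ext (pow_injOn_Iio_orderOf i.2 j.2 h2)
    have hb : Function.Bijective o := (Fintype.bijective_iff_injective_and_card o).mpr ⟨ho, by
      rw [Fintype.card_fin, horder, Fintype.card_subtype_compl, Fintype.card_subtype_eq,
        ← Nat.card_eq_fintype_card (α := ↥H ⧸ Z), hcardU]⟩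
    intro u hu
    obtain ⟨i, hi⟩ := hb.2 ⟨u, hu⟩
    exact ⟨i, congrArg Subtype.val hi⟩
  have hUc : ∀ a b : ↥H ⧸ Z, a * b = b * a := fun a b => by
    obtain ⟨x, rfl⟩ := QuotientGroup.mk_surjective a
    obtain ⟨y, rfl⟩ := QuotientGroup.mk_surjective b
    refine (commutatorElement_eq_one_iff_commute.mp ?_).eq
    rw [← QuotientGroup.mk'_apply, ← QuotientGroup.mk'_apply Z y, ← map_commutatorElement]
    exact (QuotientGroup.eq_one_iff _).mpr (hcom x y)
  letI : CommGroup (↥H ⧸ Z) := { (inferInstance : Group (↥H ⧸ Z)) with mul_comm := hUc }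
  letI : CommGroup (Subgroup.zpowers σ) :=
    { (inferInstance : Group (Subgroup.zpowers σ)) with mul_comm := fun a b => mul_comm' a b }
  obtain ⟨F', k1, k2, k3, e', ψ, hψ, he'⟩ := exists_field (V := ↥H ⧸ Z) (fun u => by
      obtain ⟨y, rfl⟩ := QuotientGroup.mk_surjective u
      rw [← QuotientGroup.mk_mul]
      exact (QuotientGroup.eq_one_iff _).mpr (hsq y))
    (Subgroup.zpowers σ).subtype (fun a b ha hb => by
      obtain ⟨i, hi⟩ := horbit a ha
      obtain ⟨j, hj⟩ := horbit b hb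
      refine ⟨⟨σ ^ ((j : ℤ) - i), Subgroup.zpow_mem _ (Subgroup.mem_zpowers σ) _⟩, ?_⟩
      show (σ ^ ((j : ℤ) - i)) a = b
      rw [← hi, ← MulAut.mul_apply, ← zpow_natCast σ i, ← zpow_add, sub_add_cancel, zpow_natCast, hj])
  have f' : F' ≃+* F := FiniteField.ringEquivOfCardEq (by
    rw [← hcardU, ← Nat.card_eq_fintype_card (α := F')]
    exact (Nat.card_congr (e'.toEquiv.trans Multiplicative.toAdd)).symm)
  let Φ : ↥H ⧸ Z → F := fun u => f' (e' u).toAdd
  set ω : F := f' (ψ ⟨σ, Subgroup.mem_zpowers σ⟩) with hω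
  have hΦσ : ∀ u, Φ (σ u) = ω * Φ u := fun u => by
    show f' _ = f' _ * f' _
    rw [← map_mul]
    exact congrArg f' (he' ⟨σ, Subgroup.mem_zpowers σ⟩ u)
  have hΦmul : ∀ u w, Φ (u * w) = Φ u + Φ w := fun u w => by
    show f' _ = f' _ + f' _
    rw [map_mul, toAdd_mul, map_add]
  have hΦb : Function.Bijective Φ := f'.bijective.comp (Multiplicative.toAdd.bijective.comp e'.bijective)
  let Ψ : F → ↥H ⧸ Z := (Equiv.ofBijective Φ hΦb).symm
  have hΦΨ : ∀ x, Φ (Ψ x) = x := (Equiv.ofBijective Φ hΦb).apply_symm_apply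
  have hΨΦ : ∀ u, Ψ (Φ u) = u := (Equiv.ofBijective Φ hΦb).symm_apply_apply
  let qf : F → F := fun x => Qb (Ψ x)
  have hΨmul : ∀ x y, Ψ (x + y) = Ψ x * Ψ y := fun x y =>
    hΦb.1 (by rw [hΦΨ, hΦmul, hΦΨ, hΦΨ])
  have hΨω : ∀ x, Ψ (ω * x) = σ (Ψ x) := fun x => hΦb.1 (by rw [hΦΨ, hΦσ, hΦΨ])
  have hqω : ∀ (i : ℕ) x, qf (ω ^ i * x) = (g : F) ^ i * qf x := by
    intro i
    induction i with
    | zero => intro x; simp
    | succ i ih =>
      intro x
      show Qb (Ψ (ω ^ (i + 1) * x)) = _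
      rw [pow_succ', mul_assoc, hΨω, hσQ]
      show (g : F) * qf (ω ^ i * x) = _
      rw [ih, pow_succ', mul_assoc]
  have hΨ0 : Ψ 0 = 1 := hΦb.1 (by
    rw [hΦΨ]
    have := hΦmul 1 1
    rw [one_mul] at this
    exact (by simpa using this : Φ 1 = 0).symm)
  have hq0 : qf 0 = 0 := by show Qb (Ψ 0) = 0; rw [hΨ0, hQ1]
  have hqne : ∀ x, x ≠ 0 → qf x ≠ 0 := fun x hx e => hx (by
    have := hQ0 _ e
    rw [← hΦΨ x, this, ← hΨ0, hΦΨ])
  have hωgen : ∀ x : F, x ≠ 0 → ∃ i : ℕ, ω ^ i = x := by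
    have hi : ∀ (i : ℕ) u, Φ ((σ ^ i) u) = ω ^ i * Φ u := by
      intro i
      induction i with
      | zero => intro u; simp
      | succ i ih => intro u; rw [pow_succ', MulAut.mul_apply, hΦσ, ih, pow_succ', mul_assoc]
    have h1 : Φ u₀ ≠ 0 := fun e => hu₀ (by rw [← hΨΦ u₀, e, hΨ0])
    intro x hx
    obtain ⟨i, hiu⟩ := horbit (Ψ (x * Φ u₀)) (fun e => mul_ne_zero hx h1 (by rw [← hΦΨ (x * Φ u₀), e, ← hΨ0, hΦΨ]))
    have h2 := hi i u₀
    rw [hiu, hΦΨ] at h2
    exact ⟨i, (mul_right_cancel₀ h1 h2).symm⟩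
  -- the power map
  set c := qf 1 with hc
  have hc0 : c ≠ 0 := hqne 1 one_ne_zero
  let M : F →* F :=
    { toFun := fun x => qf x / c
      map_one' := div_self hc0
      map_mul' := fun x y => by
        by_cases hx : x = 0
        · simp [hx, hq0]
        obtain ⟨i, rfl⟩ := hωgen x hx
        have h1 := hqω i 1
        rw [mul_one] at h1
        rw [hqω, h1, ← hc, mul_div_assoc ((g : F) ^ i) c, div_self hc0, mul_one, mul_div_assoc] }
  have hqM : ∀ x, qf x = c * M x := fun x => (mul_div_cancel₀ _ hc0).symm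
  have hquad : ∀ x y z : F, qf (x + y + z) + qf (x + y) + qf (x + z) + qf (y + z) + qf x + qf y + qf z = 0 := by
    intro x y z
    show Qb (Ψ _) + Qb (Ψ _) + Qb (Ψ _) + Qb (Ψ _) + Qb (Ψ _) + Qb (Ψ _) + Qb (Ψ _) = 0
    rw [hΨmul, hΨmul, hΨmul, hΨmul]
    obtain ⟨a, ha⟩ := QuotientGroup.mk_surjective (Ψ x)
    obtain ⟨b, hb⟩ := QuotientGroup.mk_surjective (Ψ y)
    obtain ⟨d, hd⟩ := QuotientGroup.mk_surjective (Ψ z)
    rw [← ha, ← hb, ← hd]
    simp only [← QuotientGroup.mk_mul, hβ]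
    rw [comm_mul_right (hcom d b), hEZ _ (hcom d a) _ (hcom d b)]
    linear_combination (2 * Qb (a : ↥H ⧸ Z) + 2 * Qb (b : ↥H ⧸ Z) + 2 * Qb (d : ↥H ⧸ Z) + E ⁅b, a⁆ + E ⁅d, a⁆ + E ⁅d, b⁆) *
      (CharTwo.two_eq_zero (R := F))
  obtain ⟨s, cp, hs⟩ := Cfsg.Lib.RankOne.quadratic_span qf hquad
  obtain ⟨pr, -, hpr⟩ : ∃ pr : (F ≃+* F) × (F ≃+* F), pr ∈ s ∧ ∀ x, M x = pr.1 x * pr.2 x := by
    by_contra hno
    push Not at hno
    let hm : (F ≃+* F) × (F ≃+* F) → (F →* F) := fun pr => (pr.1 : F →* F) * (pr.2 : F →* F)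
    have hM : M ∉ s.image hm := fun hmem => by
      obtain ⟨pr, hpr, e⟩ := Finset.mem_image.mp hmem
      obtain ⟨x, hx⟩ := hno pr hpr
      exact hx (by rw [← e]; rfl)
    have hli := linearIndependent_iff'.mp (linearIndependent_monoidHom F F) (insert M (s.image hm))
      (fun m => if m = M then c else ∑ pr ∈ s.filter (fun pr => hm pr = m), cp pr) (funext fun x => by
        simp only [Finset.sum_apply, Pi.smul_apply, smul_eq_mul, Pi.zero_apply]
        rw [Finset.sum_insert hM, if_pos rfl]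
        have h1 : ∑ m ∈ s.image hm, (if m = M then c else ∑ pr ∈ s.filter (fun pr => hm pr = m), cp pr) * m x =
            qf x := by
          rw [hs x, ← Finset.sum_fiberwise_of_maps_to (t := s.image hm) (g := hm) (fun pr hpr => Finset.mem_image_of_mem hm hpr)]
          refine Finset.sum_congr rfl fun m hm' => ?_
          rw [if_neg (fun e : m = M => hM (e ▸ hm')), Finset.sum_mul]
          refine Finset.sum_congr rfl fun pr hpr => ?_
          rw [← (Finset.mem_filter.mp hpr).2]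
          rfl
        rw [h1, hqM, CharTwo.add_self_eq_zero])
    have := hli M (Finset.mem_insert_self _ _)
    rw [if_pos rfl] at this
    exact hc0 this
  obtain ⟨σ₁, τ₁⟩ := pr
  let φ : F ≃+* F := σ₁.symm.trans τ₁
  have hqφ : ∀ x, qf (σ₁.symm x) = c * (x * φ x) := fun x => by
    rw [hqM, hpr]
    show c * (σ₁ (σ₁.symm x) * τ₁ (σ₁.symm x)) = _
    rw [σ₁.apply_symm_apply]
    rfl
  -- coordinates
  let xc : ↥H → F := fun p => σ₁ (Φ (p : ↥H ⧸ Z))
  let yc : ↥H → F := fun p => E p / c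
  have hxmul : ∀ a b, xc (a * b) = xc a + xc b := fun a b => by
    show σ₁ _ = σ₁ _ + σ₁ _
    rw [QuotientGroup.mk_mul, hΦmul, map_add]
  have hxZ : ∀ z ∈ Z, xc z = 0 := fun z hz => by
    show σ₁ (Φ (z : ↥H ⧸ Z)) = 0
    rw [(QuotientGroup.eq_one_iff z).mpr hz, ← hΨ0, hΦΨ, map_zero]
  have hsquare : ∀ p, yc (p * p) = xc p * φ (xc p) := fun p => by
    show E (p * p) / c = _
    rw [← hQ, div_eq_iff hc0, mul_comm _ c, ← hqφ]
    show Qb _ = Qb (Ψ (σ₁.symm (σ₁ (Φ (p : ↥H ⧸ Z)))))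
    rw [σ₁.symm_apply_apply, hΨΦ]
  have hyadd : ∀ a ∈ Z, ∀ b ∈ Z, yc (a * b) = yc a + yc b := fun a ha b hb => by
    show E _ / c = E _ / c + E _ / c
    rw [hEZ a ha b hb, add_div]
  have hysurj : ∀ y : F, ∃ z ∈ Z, yc z = y := fun y => by
    obtain ⟨a, ha, e⟩ := hEsurj (y * c)
    exact ⟨a, h.central a ha, by show E a / c = y; rw [e, mul_div_cancel_right₀ _ hc0]⟩
  have hy0 : ∀ z ∈ Z, yc z = 0 → z = 1 := fun z hz e => hE0 z (hZ2 z hz) (by
    have e' : E z / c = 0 := e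
    rwa [div_eq_zero_iff, or_iff_left hc0] at e')
  have hyone : yc 1 = 0 := by show E 1 / c = 0; rw [hE1, zero_div]
  have hxsurj : ∀ x : F, ∃ p, xc p = x := fun x => by
    obtain ⟨p, hp⟩ := QuotientGroup.mk_surjective (Ψ (σ₁.symm x))
    exact ⟨p, by show σ₁ (Φ (p : ↥H ⧸ Z)) = x; rw [hp, hΦΨ, σ₁.apply_symm_apply]⟩
  have hodd : Odd (orderOf φ) := odd_orderOf φ fun x hx => by
    have h1 := hqφ x
    rw [hx, mul_one, hc] at h1
    by_contra hne
    by_cases hx0 : σ₁.symm x = 0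
    · rw [hx0, hq0] at h1
      exact hc0 h1.symm
    obtain ⟨i, hi⟩ := hωgen _ hx0
    have h2 : qf (σ₁.symm x) = (g : F) ^ i * qf 1 := by rw [← hi, ← hqω, mul_one]
    have h3 : g ^ i = 1 := Units.ext (by
      rw [Units.val_pow_eq_pow_val, Units.val_one]
      exact mul_right_cancel₀ hc0 (by rw [one_mul, ← h2, h1]))
    have hωord : ω ^ orderOf g = 1 := by
      rw [horder]
      exact FiniteField.pow_card_sub_one_eq_one ω fun e => by
        obtain ⟨j, hj⟩ := hωgen (σ₁.symm x) hx0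
        rw [e] at hj
        rcases j with _ | j
        · rw [pow_zero] at hj
          exact hne (by rw [← σ₁.apply_symm_apply x, ← hj, map_one])
        · rw [zero_pow (by omega)] at hj
          exact hx0 hj.symm
    obtain ⟨l, rfl⟩ := orderOf_dvd_of_pow_eq_one h3
    rw [pow_mul, hωord, one_pow] at hi
    exact hne (by rw [← σ₁.apply_symm_apply x, ← hi, map_one])
  have hφne : φ ≠ RingEquiv.refl F := by
    intro e
    obtain ⟨a, b, hab⟩ := hnab
    refine hab (commutatorElement_eq_one_iff_commute.mp (hE0 _ (hZ2 _ (hcom a b)) ?_)).eq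
    have h1 : ∀ p, E (p * p) = c * (xc p * xc p) := fun p => by
      have := hsquare p
      rw [e, RingEquiv.refl_apply] at this
      show _ = _
      rw [← this]
      exact (mul_div_cancel₀ _ hc0).symm
    have h2 := hβ b a
    rw [hQ, hQ, hQ, h1, h1, h1, hxmul] at h2
    linear_combination -h2 + (c * xc b * xc a) * (CharTwo.two_eq_zero (R := F))
  let φr : F →+* F := (φ : F →+* F)
  let R : Subgroup (↥H × GL (Fin 3) F) :=
    { carrier := {r | ∃ y, r.2 = tri φr (xc r.1) y}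
      one_mem' := ⟨0, by rw [Prod.fst_one, Prod.snd_one, hxZ 1 (one_mem _), tri_zero]⟩
      mul_mem' := fun {r r'} ⟨y, hy⟩ ⟨y', hy'⟩ => ⟨y + y' + φr (xc r.1) * xc r'.1, by
        rw [Prod.snd_mul, Prod.fst_mul, hy, hy', tri_mul, hxmul]⟩
      inv_mem' := fun {r} ⟨y, hy⟩ => ⟨-y + φr (xc r.1) * xc r.1, by
        have e : xc r.1⁻¹ = -xc r.1 := by
          have := hxmul r.1 r.1⁻¹
          rw [mul_inv_cancel, hxZ 1 (one_mem _)] at this
          linear_combination -this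
        rw [Prod.snd_inv, Prod.fst_inv, hy, e]
        refine inv_eq_of_mul_eq_one_right ?_
        rw [tri_mul, ← tri_zero φr]
        congr 1 <;> ring⟩ }
  have hcent0 : ∀ (y : F) (a b : F), tri φr 0 y * tri φr a b = tri φr a b * tri φr 0 y := fun y a b => by
    rw [tri_mul, tri_mul, map_zero]
    congr 1 <;> ring
  let D : Subgroup R :=
    { carrier := {r | (r : ↥H × GL (Fin 3) F).1 ∈ Z ∧ (r : ↥H × GL (Fin 3) F).2 = tri φr 0 (yc (r : ↥H × GL (Fin 3) F).1)}
      one_mem' := ⟨one_mem _, by simp [hyone, tri_zero]⟩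
      mul_mem' := fun {r r'} ⟨h1, h2⟩ ⟨h1', h2'⟩ => ⟨mul_mem h1 h1', by
        simp only [Subgroup.coe_mul, Prod.snd_mul, Prod.fst_mul, h2, h2', tri_mul, map_zero, zero_mul, add_zero,
          hyadd _ h1 _ h1']⟩
      inv_mem' := fun {r} ⟨h1, h2⟩ => ⟨inv_mem h1, by
        simp only [Subgroup.coe_inv, Prod.snd_inv, Prod.fst_inv, h2]
        refine inv_eq_of_mul_eq_one_right ?_
        rw [tri_mul, ← tri_zero φr, map_zero, zero_mul, add_zero, add_zero, ← hyadd _ h1 _ (inv_mem h1),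
          mul_inv_cancel, hyone]⟩ }
  haveI : D.Normal := ⟨fun d hd r => by
    have h1 : (d : ↥H × GL (Fin 3) F).1 ∈ Z := hd.1
    have h2 : (d : ↥H × GL (Fin 3) F).2 = tri φr 0 (yc (d : ↥H × GL (Fin 3) F).1) := hd.2
    have e : r * d * r⁻¹ = d := by
      refine mul_inv_eq_iff_eq_mul.mpr (Subtype.ext (Prod.ext (Subgroup.mem_center_iff.mp h1 _) ?_))
      obtain ⟨y, hy⟩ := r.2
      simp only [Subgroup.coe_mul, Prod.snd_mul, h2, hy]
      exact (hcent0 _ _ _).symm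
    rw [e]
    exact hd⟩
  have hsqD : ∀ r : R ⧸ D, r * r = 1 := by
    intro q
    obtain ⟨r, rfl⟩ := QuotientGroup.mk_surjective q
    rw [← QuotientGroup.mk_mul]
    refine (QuotientGroup.eq_one_iff _).mpr ⟨hsq _, ?_⟩
    obtain ⟨y, hy⟩ := r.2
    simp only [Subgroup.coe_mul, Prod.snd_mul, Prod.fst_mul, hy, tri_mul, hsquare]
    congr 1
    · exact CharTwo.add_self_eq_zero _
    · show y + y + φ (xc _) * xc _ = _
      rw [CharTwo.add_self_eq_zero, zero_add, mul_comm]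
  letI : CommGroup (R ⧸ D) := { (inferInstance : Group (R ⧸ D)) with
    mul_comm := fun a b => by
      have := hsqD (a * b)
      rw [mul_assoc, mul_eq_one_iff_eq_inv, mul_inv_rev, mul_inv_rev, inv_eq_of_sq (hsqD a), inv_eq_of_sq (hsqD b)] at this
      calc a * b = (b * a * b) * b := by rw [← this]
        _ = b * a := by rw [mul_assoc _ b b, hsqD b, mul_one] }
  letI : Module (ZMod 2) (Additive (R ⧸ D)) := AddCommGroup.zmodModule fun q => by
    refine Additive.toMul.injective ?_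
    rw [toMul_nsmul, toMul_zero, pow_two]
    exact hsqD q.toMul
  letI : Algebra (ZMod 2) F := ZMod.algebra F 2
  let low : F → R := fun y => ⟨(1, tri φr 0 y), y, by show tri φr 0 y = tri φr (xc 1) y; rw [hxZ 1 (one_mem _)]⟩
  let j₀ : F →+ Additive (R ⧸ D) := AddMonoidHom.mk' (fun y => Additive.ofMul ((low y : R) : R ⧸ D)) fun y y' => by
    refine Additive.toMul.injective ?_
    rw [toMul_add, toMul_ofMul, toMul_ofMul, toMul_ofMul, ← QuotientGroup.mk_mul]
    refine congrArg _ (Subtype.ext (Prod.ext (mul_one _).symm ?_))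
    show tri φr 0 (y + y') = tri φr 0 y * tri φr 0 y'
    rw [tri_mul, map_zero, zero_mul, add_zero, add_zero]
  obtain ⟨ret, hret⟩ := LinearMap.exists_leftInverse_of_injective (j₀.toZModLinearMap 2) (LinearMap.ker_eq_bot.mpr fun y y' e => by
    have h1 := QuotientGroup.eq.mp (congrArg Additive.toMul e)
    have h2 : tri φr 0 (y + y') = tri φr 0 (yc 1) := by
      have h3 := h1.2
      simp only [low, Subgroup.coe_mul, Subgroup.coe_inv, Prod.snd_mul, Prod.snd_inv, Prod.fst_mul, Prod.fst_inv,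
        inv_one, one_mul] at h3
      rw [← h3]
      have e2 : (tri φr 0 y)⁻¹ = tri φr 0 y := inv_eq_of_sq (by
        rw [tri_mul, ← tri_zero φr, map_zero, zero_mul, add_zero, add_zero, CharTwo.add_self_eq_zero])
      rw [e2, tri_mul, map_zero, zero_mul, add_zero, add_zero]
    rw [hyone] at h2
    exact CharTwo.add_eq_zero.mp (tri_inj φr h2).2)
  let r₀ : R →* Multiplicative F :=
    { toFun := fun r => Multiplicative.ofAdd (ret (Additive.ofMul (r : R ⧸ D)))
      map_one' := by rw [QuotientGroup.mk_one, ofMul_one, map_zero]; rfl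
      map_mul' := fun a b => by rw [QuotientGroup.mk_mul, ofMul_mul, map_add]; rfl }
  have hr₀low : ∀ y, r₀ (low y) = Multiplicative.ofAdd y := fun y =>
    congrArg Multiplicative.ofAdd (LinearMap.congr_fun hret y)
  -- the quadratic coordinate
  let rp : ↥H → R := fun p => ⟨(p, tri φr (xc p) 0), 0, rfl⟩
  let yy : ↥H → F := fun p => (r₀ (rp p)).toAdd
  have hcast2 : ∀ x : F, x + x = 0 := CharTwo.add_self_eq_zero
  have hyymul : ∀ p q, yy (p * q) = yy p + yy q + φ (xc p) * xc q := fun p q => by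
    have e1 : rp p * rp q = rp (p * q) * low (φ (xc p) * xc q) := by
      refine Subtype.ext (Prod.ext ?_ ?_)
      · show p * q = p * q * 1
        rw [mul_one]
      · show tri φr (xc p) 0 * tri φr (xc q) 0 = tri φr (xc (p * q)) 0 * tri φr 0 (φ (xc p) * xc q)
        rw [tri_mul, tri_mul, hxmul]
        congr 1
        · rw [add_zero]
        · show 0 + 0 + φ (xc p) * xc q = 0 + φ (xc p) * xc q + φ (xc p + xc q) * 0
          ring
    have e2 := congrArg (fun r => (r₀ r).toAdd) e1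
    simp only [map_mul, toAdd_mul, hr₀low, toAdd_ofAdd] at e2
    show yy (p * q) = _
    linear_combination -e2 - (φ (xc p) * xc q) * (CharTwo.two_eq_zero (R := F))
  have hyyZ : ∀ z ∈ Z, yy z = yc z := fun z hz => by
    have e0 : rp z = ⟨(z, 1), 0, by show (1 : GL (Fin 3) F) = tri φr (xc z) 0; rw [hxZ z hz, tri_zero]⟩ :=
      Subtype.ext (Prod.ext rfl (by show tri φr (xc z) 0 = 1; rw [hxZ z hz, tri_zero]))
    have hsame : (low (yc z))⁻¹ * rp z ∈ D := by
      rw [e0]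
      refine ⟨?_, ?_⟩
      · show (1 : ↥H)⁻¹ * z ∈ Z
        rw [inv_one, one_mul]
        exact hz
      · show (tri φr 0 (yc z))⁻¹ * 1 = tri φr 0 (yc (1⁻¹ * z))
        rw [mul_one, inv_one, one_mul]
        refine inv_eq_of_sq ?_
        rw [tri_mul, ← tri_zero φr, map_zero, zero_mul, add_zero, add_zero, CharTwo.add_self_eq_zero]
    have e1 : r₀ (rp z) = r₀ (low (yc z)) := by
      show Multiplicative.ofAdd (ret _) = Multiplicative.ofAdd (ret _)
      rw [QuotientGroup.eq.mpr hsame]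
    show (r₀ (rp z)).toAdd = yc z
    rw [e1, hr₀low, toAdd_ofAdd]
  -- the action of the complement
  obtain ⟨τ₀, hτ₀⟩ : ∃ τ₀ : stab₂ G a b, Cfsg.Lib.ZTGroups.conjH C τ₀ = ρ k₀ := k₀.2
  set kk : F := σ₁ ω with hkk
  have hxk : ∀ p, xc (ρ k₀ p) = kk * xc p := fun p => by
    show σ₁ (Φ ((ρ k₀ p : ↥H) : ↥H ⧸ Z)) = σ₁ ω * σ₁ (Φ (p : ↥H ⧸ Z))
    rw [show ((ρ k₀ p : ↥H) : ↥H ⧸ Z) = σ (p : ↥H ⧸ Z) from rfl, hΦσ, map_mul]
  have hyg : ∀ z ∈ Z, yc (ρ k₀ z) = (g : F) * yc z := fun z hz => by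
    show E (ρ k₀ z) / c = (g : F) * (E z / c)
    rw [hEρ k₀ z (hZ2 z hz), hk₀, mul_div_assoc]
  have hgk : (g : F) = psi φ kk := by
    obtain ⟨p, hp⟩ := hxsurj 1
    have e1 := hsquare (ρ k₀ p)
    rw [← map_mul, hyg _ (hsq p), hsquare, hxk, hp] at e1
    simpa [psi] using e1
  have hlin : ∀ (i : ℕ) (p : ↥H), xc (Cfsg.Lib.ZTGroups.conjH C (τ₀ ^ i) p) = kk ^ i * xc p ∧
      (p ∈ Z → yc (Cfsg.Lib.ZTGroups.conjH C (τ₀ ^ i) p) = psi φ kk ^ i * yc p) := by
    intro i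
    induction i with
    | zero => intro p; simp
    | succ i ih =>
      intro p
      rw [pow_succ', map_mul, MulAut.mul_apply, hτ₀]
      refine ⟨by rw [hxk, (ih p).1, pow_succ', mul_assoc], fun hp => ?_⟩
      have hz : Cfsg.Lib.ZTGroups.conjH C (τ₀ ^ i) p ∈ Z := by
        rw [hZdef, C.center_iff, ← map_mul, hZ2 p hp, map_one]
      rw [hyg _ hz, (ih p).2 hp, ← hgk, pow_succ', mul_assoc]
  have hkgen : ∀ x : F, x ≠ 0 → ∃ i : ℕ, kk ^ i = x := fun x hx => by
    obtain ⟨i, hi⟩ := hωgen (σ₁.symm x) ((map_ne_zero σ₁.symm).mpr hx)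
    exact ⟨i, by rw [hkk, ← map_pow, hi, σ₁.apply_symm_apply]⟩
  obtain ⟨p₁, hp₁⟩ := hxsurj 1
  let ν : stab₂ G a b → F := fun t => xc (Cfsg.Lib.ZTGroups.conjH C t p₁)
  have hνi : ∀ i : ℕ, ν (τ₀ ^ i) = kk ^ i := fun i => by
    show xc _ = _
    rw [(hlin i p₁).1, hp₁, mul_one]
  have hcardE : Nat.card (stab₂ G a b) = Fintype.card Fˣ := by
    rw [C.he, Fintype.card_units, ← Nat.card_eq_fintype_card (α := F), hcardF, hZdef, C.card_center,
      Nat.add_sub_cancel]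
  have hgenE : ∀ t : stab₂ G a b, ∃ i : ℕ, τ₀ ^ i = t := by
    choose ix hix using fun x : Fˣ => hkgen x x.ne_zero
    let f : Fˣ → stab₂ G a b := fun x => τ₀ ^ ix x
    have hf : Function.Injective f := fun x y e => Units.ext (by
      rw [← hix x, ← hix y, ← hνi, ← hνi]
      exact congrArg ν e)
    intro t
    obtain ⟨x, hx⟩ := (hf.bijective_of_nat_card_le (by rw [hcardE, Nat.card_eq_fintype_card])).2 t
    exact ⟨ix x, hx⟩
  have hνx : ∀ t p, xc (Cfsg.Lib.ZTGroups.conjH C t p) = ν t * xc p := fun t p => by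
    obtain ⟨i, rfl⟩ := hgenE t
    rw [hνi, (hlin i p).1]
  have hνy : ∀ t, ∀ z ∈ Z, yc (Cfsg.Lib.ZTGroups.conjH C t z) = psi φ (ν t) * yc z := fun t z hz => by
    obtain ⟨i, rfl⟩ := hgenE t
    rw [hνi, (hlin i z).2 hz]
    congr 1
    simp [psi, map_pow, mul_pow]
  have hνmul : ∀ s t, ν (s * t) = ν s * ν t := fun s t => by
    show xc _ = _
    rw [map_mul, MulAut.mul_apply, hνx]
  have hν1 : ν 1 = 1 := by
    show xc _ = _
    rw [map_one, MulAut.one_apply, hp₁]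
  let νu : stab₂ G a b →* Fˣ :=
    { toFun := fun t => ⟨ν t, ν t⁻¹, by rw [← hνmul, mul_inv_cancel, hν1], by rw [← hνmul, inv_mul_cancel, hν1]⟩
      map_one' := Units.ext hν1
      map_mul' := fun s t => Units.ext (hνmul s t) }
  have hνb : Function.Bijective νu := by
    haveI : Fintype (stab₂ G a b) := Fintype.ofFinite _
    refine (Fintype.bijective_iff_surjective_and_card νu).mpr ⟨fun x => ?_, by
      rw [← Nat.card_eq_fintype_card, hcardE]⟩
    obtain ⟨i, hi⟩ := hkgen x x.ne_zero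
    exact ⟨τ₀ ^ i, Units.ext ((hνi i).trans hi)⟩
  -- averaging
  haveI : Fintype (stab₂ G a b) := Fintype.ofFinite _
  let Y : ↥H → F := fun p => ∑ t : stab₂ G a b, (psi φ (ν t))⁻¹ * yy (Cfsg.Lib.ZTGroups.conjH C t p)
  have hpsiν : ∀ t, psi φ (ν t) ≠ 0 := fun t => psi_ne_zero (νu t).ne_zero
  have hone : ∀ x : F, ∑ _t : stab₂ G a b, x = x := fun x => by
    obtain ⟨m, hm⟩ := C.hodd
    rw [Finset.sum_const, Finset.card_univ, ← Nat.card_eq_fintype_card, C.he, hm, nsmul_eq_mul]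
    push_cast
    linear_combination ((m : F) * x) * (CharTwo.two_eq_zero (R := F))
  have hYmul : ∀ p q, Y (p * q) = Y p + Y q + φ (xc p) * xc q := fun p q => by
    rw [← hone (φ (xc p) * xc q)]
    show ∑ _t, _ = (∑ _t, _) + (∑ _t, _) + _
    rw [← Finset.sum_add_distrib, ← Finset.sum_add_distrib]
    refine Finset.sum_congr rfl fun t _ => ?_
    rw [map_mul, hyymul, hνx, hνx, map_mul φ, mul_add, mul_add]
    have e : (psi φ (ν t))⁻¹ * (φ (ν t) * φ (xc p) * (ν t * xc q)) =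
        ((psi φ (ν t))⁻¹ * psi φ (ν t)) * (φ (xc p) * xc q) := by
      simp only [psi]
      ring
    rw [e, inv_mul_cancel₀ (hpsiν t), one_mul]
  have hYZ : ∀ z ∈ Z, Y z = yc z := fun z hz => by
    rw [← hone (yc z)]
    refine Finset.sum_congr rfl fun t _ => ?_
    rw [hyyZ _ (by rw [hZdef, C.center_iff, ← map_mul, hZ2 z hz, map_one]), hνy t z hz,
      inv_mul_cancel_left₀ (hpsiν t)]
  have hYeq : ∀ s p, Y (Cfsg.Lib.ZTGroups.conjH C s p) = psi φ (ν s) * Y p := fun s p => by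
    show ∑ _t, _ = _ * ∑ _t, _
    rw [Finset.mul_sum]
    refine Fintype.sum_equiv (Equiv.mulRight s) _ _ fun t => ?_
    show (psi φ (ν t))⁻¹ * yy (Cfsg.Lib.ZTGroups.conjH C t (Cfsg.Lib.ZTGroups.conjH C s p)) =
      psi φ (ν s) * ((psi φ (ν (t * s)))⁻¹ * yy (Cfsg.Lib.ZTGroups.conjH C (t * s) p))
    rw [map_mul, MulAut.mul_apply, hνmul, psi_mul, mul_inv_rev, ← mul_assoc, ← mul_assoc,
      mul_inv_cancel₀ (hpsiν s), one_mul]
  let j : ↥H → F × F := fun p => (xc p, Y p)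
  have hjmul : ∀ p q, j (p * q) = star φ (j p) (j q) := fun p q => Prod.ext (hxmul p q) (hYmul p q)
  have hjconj : ∀ t p, j (Cfsg.Lib.ZTGroups.conjH C t p) = act φ (ν t) (j p) := fun t p =>
    Prod.ext (hνx t p) (hYeq t p)
  have hj : Function.Bijective j := by
    haveI : Fintype ↥H := Fintype.ofFinite _
    refine (Fintype.bijective_iff_injective_and_card j).mpr ⟨fun p q e => ?_, ?_⟩
    · have ex : xc (p⁻¹ * q) = 0 := by
        have e1 := hxmul p (p⁻¹ * q)
        rw [mul_inv_cancel_left, ← show xc p = xc q from congrArg Prod.fst e] at e1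
        linear_combination -e1
      have hz : p⁻¹ * q ∈ Z := by
        refine (QuotientGroup.eq_one_iff _).mp ?_
        rw [← hΨΦ ((p⁻¹ * q : ↥H) : ↥H ⧸ Z), ← hΨ0]
        exact congrArg Ψ (σ₁.injective (ex.trans (map_zero σ₁).symm))
      have e2 := hYmul p (p⁻¹ * q)
      rw [mul_inv_cancel_left, ex, mul_zero, add_zero, hYZ _ hz, ← show Y p = Y q from congrArg Prod.snd e] at e2
      exact inv_mul_eq_one.mp (hy0 _ hz (by linear_combination -e2))
    · rw [Fintype.card_prod, ← Nat.card_eq_fintype_card, hcard, ← hcardF, Nat.card_eq_fintype_card, pow_two]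
  let J := (Equiv.ofBijective j hj).symm
  have hJj : ∀ x, j (J x) = x := (Equiv.ofBijective j hj).apply_symm_apply
  let N := (MulEquiv.ofBijective νu hνb).symm
  refine ⟨F, inferInstance, inferInstance, inferInstance, φ, fun x => (J x : G),
    (stab₂ G a b).subtype.comp N.toMonoidHom, by
      rw [← Nat.card_eq_fintype_card, hcardF, hZdef, C.card_center], ?_⟩
  refine ⟨?_, hφne, hodd, fun x => (J x).2, fun x y e => J.injective (Subtype.ext e), fun u hu => ?_,
    fun p q => ?_, fun k => (N k).2, fun x y e => N.injective (Subtype.ext e), fun t ht => ?_, fun k p => ?_⟩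
  · intro x hx
    have hx0 : x ≠ 0 := fun e => by rw [e, psi_zero] at hx; exact zero_ne_one hx
    obtain ⟨i, rfl⟩ := hkgen x hx0
    obtain ⟨z, hz, hz'⟩ := hysurj 1
    have hzne : z ≠ 1 := fun e => by rw [e, hyone] at hz'; exact zero_ne_one hz'
    have e1 := hνy (τ₀ ^ i) z hz
    rw [hνi, hx, one_mul] at e1
    have hz'' : Cfsg.Lib.ZTGroups.conjH C (τ₀ ^ i) z ∈ Z := by
      rw [hZdef, C.center_iff, ← map_mul, hZ2 z hz, map_one]
    have e2 : Cfsg.Lib.ZTGroups.conjH C (τ₀ ^ i) z * z = 1 := hy0 _ (mul_mem hz'' hz) (by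
      rw [hyadd _ hz'' _ hz, e1, CharTwo.add_self_eq_zero])
    have e3 : Cfsg.Lib.ZTGroups.conjH C (τ₀ ^ i) z = z := by
      rw [mul_eq_one_iff_eq_inv.mp e2, inv_eq_of_mul_eq_one_left (hZ2 z hz)]
    have e4 : τ₀ ^ i = 1 := by
      by_contra hne
      exact hzne (C.conjH_ne hne e3)
    rw [← hνi, e4, hν1]
  · exact ⟨j ⟨u, hu⟩, congrArg Subtype.val ((Equiv.ofBijective j hj).symm_apply_apply ⟨u, hu⟩)⟩
  · rw [← Subgroup.coe_mul]
    refine congrArg Subtype.val (hj.1 ?_)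
    rw [hjmul, hJj, hJj, hJj]
  · exact ⟨νu ⟨t, ht⟩, congrArg Subtype.val ((MulEquiv.ofBijective νu hνb).symm_apply_apply ⟨t, ht⟩)⟩
  · show (N k : G) * (J p : G) * (N k : G)⁻¹ = (J _ : G)
    rw [← Cfsg.Lib.ZTGroups.conjH_coe C (N k) (J p)]
    refine congrArg Subtype.val (hj.1 ?_)
    rw [hjconj, hJj, hJj]
    have : ν (N k) = (k : F) := congrArg Units.val ((MulEquiv.ofBijective νu hνb).apply_symm_apply k)
    rw [this]

end Cfsg.Lib.SuzukiUnique
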