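import Cfsg.Agent.SuzukiUnique.Coords

/-!
# The swapping involution satisfies the relations of the model
-/

set_option autoImplicit false
set_option linter.unusedSectionVars false
set_option linter.style.haveILetI false

namespace Cfsg.Lib.SuzukiUnique

open MulAction
open scoped Pointwise
open Cfsg.Lib.OddChar.Zassenhaus

universe u v

variable {G : Type u} {Ω : Type v} [Group G] [Finite G] [MulAction G Ω] [Fintype Ω] [IsSimpleGroup G]
variable {a b : Ω} {H : Subgroup G} {h e : ℕ}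
variable {F : Type} [Field F] [Fintype F] [CharP F 2] {φ : F ≃+* F} {ι : F × F → G} {κ : Fˣ →* G}

namespace Coords

variable (C : Cfsg.Lib.ZTGroups.Core a b H h e) (K : Coords H (stab₂ G a b) F φ ι κ)
include C K

theorem ι_zero : ι 0 = 1 := by
  have h1 := K.ι_mul 0 0
  rw [star_zero_left] at h1
  exact (left_eq_mul.mp h1)

theorem ι_a (p : F × F) : ι p • a = a := C.hHa (K.ι_mem p)

theorem κ_a (k : Fˣ) : κ k • a = a := (K.κ_mem k).1

theorem κ_b (k : Fˣ) : κ k • b = b := (K.κ_mem k).2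

theorem pt_ne_a (p : F × F) : ι p • b ≠ a := fun h' => C.hab (smul_left_cancel (ι p) (h'.trans (K.ι_a C p).symm)).symm

theorem pt_inj {p q : F × F} (h' : ι p • b = ι q • b) : p = q := by
  by_contra hne
  refine C.hab (C.hHfix ((ι q)⁻¹ * ι p) (H.mul_mem (H.inv_mem (K.ι_mem q)) (K.ι_mem p))
    (fun e1 => hne (K.ι_inj (inv_mul_eq_one.mp e1).symm)) b ?_).symm
  rw [mul_smul, h', inv_smul_smul]

theorem pt_zero : ι 0 • b = b := by rw [K.ι_zero C, one_smul]

theorem pt_surj (x : Ω) (hx : x ≠ a) : ∃ p, ι p • b = x := by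
  obtain ⟨u, hu, hub⟩ := exists_kernel_map C.hHa C.hHcard C.hHfix C.hab.symm hx
  obtain ⟨p, rfl⟩ := K.ι_surj u hu
  exact ⟨p, hub⟩

theorem pt_act (k : Fˣ) (p : F × F) : κ k • ι p • b = ι (act φ (k : F) p) • b := by
  rw [← K.conj, mul_smul, mul_smul, inv_smul_eq_iff.mpr (K.κ_b C k).symm]

theorem pt_star (p q : F × F) : ι p • ι q • b = ι (star φ p q) • b := by rw [K.ι_mul, mul_smul]

theorem ι_inv (p : F × F) : (ι p)⁻¹ = ι (pinv φ p) :=
  inv_eq_of_mul_eq_one_right (by rw [← K.ι_mul, star_pinv, K.ι_zero C])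

theorem swap_spec {w : G} (hwa : w • a = b) (hwb : w • b = a) : w * w = 1 ∧ ∀ k, w * κ k * w = κ k⁻¹ := by
  obtain ⟨h1, h2⟩ := (swap_sq C.hZ C.hab (C.he.symm ▸ C.hodd) C.hab).2 w hwa hwb
  refine ⟨h1, fun k => ?_⟩
  rw [map_inv, ← h2 _ (K.κ_mem k), inv_eq_of_mul_eq_one_right h1]

/-- the map induced by a swapping involution -/
theorem exists_swap {w : G} (hwa : w • a = b) (hwb : w • b = a) :
    ∃ f : F × F → F × F, (∀ p, p ≠ 0 → f p ≠ 0) ∧ (∀ p, p ≠ 0 → w • ι p • b = ι (f p) • b) ∧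
      (∀ p, p ≠ 0 → f (f p) = p) ∧ ∀ l p, l ≠ 0 → p ≠ 0 → f (act φ l p) = act φ l⁻¹ (f p) := by
  obtain ⟨hw, hwk⟩ := K.swap_spec C hwa hwb
  have hsurj : ∀ p : F × F, p ≠ 0 → ∃ q, ι q • b = w • ι p • b := fun p hp =>
    K.pt_surj C _ fun h' => hp (by
      rw [← hwb] at h'
      exact K.pt_inj C ((smul_left_cancel w h').trans (K.pt_zero C).symm))
  classical
  choose q hq using hsurj
  refine ⟨fun p => if hp : p ≠ 0 then q p hp else 0, ?_⟩
  set f : F × F → F × F := fun p => if hp : p ≠ 0 then q p hp else 0 with hf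
  have hfp : ∀ p, p ≠ 0 → w • ι p • b = ι (f p) • b := fun p hp => by
    rw [hf]
    simp only [dif_pos hp]
    exact (hq p hp).symm
  have hne : ∀ p, p ≠ 0 → f p ≠ 0 := fun p hp h0 => K.pt_ne_a C p (by
    have h1 := hfp p hp
    rw [h0, K.pt_zero C] at h1
    exact smul_left_cancel w (h1.trans hwa.symm))
  refine ⟨hne, hfp, fun p hp => K.pt_inj C ?_, fun l p hl hp => K.pt_inj C ?_⟩
  · rw [← hfp _ (hne p hp), ← hfp p hp, ← mul_smul, hw, one_smul]
  · rw [← hfp _ (act_ne_zero hl hp), ← Units.val_mk0 hl, ← K.pt_act C (Units.mk0 l hl) p,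
      ← Units.val_inv_eq_inv_val, ← K.pt_act C, ← hfp p hp, ← hwk, mul_smul, mul_smul, ← mul_smul w w, hw, one_smul]

/-- a swapping involution for which the image of the unit central pair has first coordinate one -/
theorem exists_normal_swap (hcard : Fintype.card F = e + 1) :
    ∃ (w : G) (f : F × F → F × F), w • a = b ∧ w • b = a ∧ (∀ p, p ≠ 0 → f p ≠ 0) ∧
      (∀ p, p ≠ 0 → w • ι p • b = ι (f p) • b) ∧
      (∀ p, p ≠ 0 → f (f p) = p) ∧ (∀ l p, l ≠ 0 → p ≠ 0 → f (act φ l p) = act φ l⁻¹ (f p)) ∧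
      (f (0, 1)).1 = 1 := by
  classical
  obtain ⟨w, hwa, hwb⟩ := exists_map C.hZ C.hab C.hab.symm
  obtain ⟨f, hne, hfp, hinv, heq⟩ := K.exists_swap C hwa hwb
  have hz : ((0 : F), (1 : F)) ≠ 0 := fun e' => one_ne_zero (congrArg Prod.snd e')
  have hc : (f (0, 1)).1 ≠ 0 := by
    intro h0
    -- the orbit of the centre
    obtain ⟨n, hn, hn1, hh, hen⟩ := C.parameters
    set S : Set Ω := insert a (Set.range fun y : F => ι (0, y) • b) with hS
    have hpsurj : ∀ y : F, ∃ x, psi φ x = y := Finite.surjective_of_injective (fun x x' e' => by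
      by_cases hx : x' = 0
      · subst hx
        exact psi_eq_zero (e'.trans psi_zero)
      have := K.inj (x * x'⁻¹) (by rw [psi_mul, psi_inv, e', mul_inv_cancel₀ (psi_ne_zero hx)])
      rwa [mul_inv_eq_one₀ hx] at this)
    have hwS : ∀ x ∈ S, w • x ∈ S := by
      rintro x (rfl | ⟨y, rfl⟩)
      · exact Or.inr ⟨0, by rw [hwa]; exact K.pt_zero C⟩
      · rcases eq_or_ne y 0 with rfl | hy
        · exact Or.inl (by show w • ι 0 • b = a; rw [K.pt_zero C, hwb])
        obtain ⟨l, rfl⟩ := hpsurj y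
        have hl : l ≠ 0 := fun e' => hy (by rw [e', psi_zero])
        refine Or.inr ⟨psi φ l⁻¹ * (f (0, 1)).2, ?_⟩
        show _ = w • ι (0, psi φ l) • b
        rw [hfp _ (fun e' => hy (congrArg Prod.snd e')),
          show ((0 : F), psi φ l) = act φ l (0, 1) by simp [act], heq _ _ hl hz]
        show ι (0, psi φ l⁻¹ * (f (0, 1)).2) • b = ι (l⁻¹ * (f (0, 1)).1, psi φ l⁻¹ * (f (0, 1)).2) • b
        rw [h0, mul_zero]
    have hιS : ∀ (y : F), ∀ x ∈ S, ι (0, y) • x ∈ S := by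
      rintro y x (rfl | ⟨y', rfl⟩)
      · exact Or.inl (K.ι_a C _)
      · refine Or.inr ⟨y + y', ?_⟩
        show _ = ι (0, y) • ι (0, y') • b
        rw [K.pt_star C]
        simp [star]
    set L := Subgroup.closure (insert w (Set.range fun y : F => ι (0, y))) with hL
    have hLS : ∀ g ∈ L, ∀ x, x ∈ S → g • x ∈ S := by
      intro g hg
      have key : g ∈ stabilizer G S := by
        refine (Subgroup.closure_le _).mpr ?_ hg
        intro g' hg'
        rw [SetLike.mem_coe, mem_stabilizer_set' (Set.toFinite S)]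
        rcases hg' with rfl | ⟨y, rfl⟩
        · exact fun x hx => hwS x hx
        · exact fun x hx => hιS y x hx
      exact fun x hx => (mem_stabilizer_set' (Set.toFinite S)).mp key hx
    have horb : orbit L a = S := by
      ext x
      refine ⟨fun ⟨g, hg⟩ => hg ▸ hLS g g.2 a (Or.inl rfl), ?_⟩
      rintro (rfl | ⟨y, rfl⟩)
      · exact mem_orbit_self _
      · refine ⟨⟨ι (0, y) * w, L.mul_mem (Subgroup.subset_closure (Or.inr ⟨y, rfl⟩))
          (Subgroup.subset_closure (Or.inl rfl))⟩, ?_⟩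
        show (ι (0, y) * w) • a = _
        rw [mul_smul, hwa]
    have hcardS : S.ncard = 2 ^ n + 1 := by
      rw [hS, Set.ncard_insert_of_notMem (s := Set.range fun y : F => ι (0, y) • b) (fun hy => by obtain ⟨y, hy⟩ := hy; exact K.pt_ne_a C _ hy) (Set.toFinite _),
        Set.ncard_range_of_injective fun y y' e' => congrArg Prod.snd (K.pt_inj C e'),
        Nat.card_eq_fintype_card, hcard, hen]
    have h1 : 2 ^ n + 1 ∣ Nat.card G := by
      refine dvd_trans ?_ (Subgroup.card_subgroup_dvd_card L)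
      rw [← hcardS, ← horb, ← index_stabilizer]
      exact Subgroup.index_dvd_card _
    rw [card_group C.hZ C.hab C.hh C.he, hh, show e = 2 ^ n - 1 by omega] at h1
    set q := 2 ^ n
    have h4 : 4 ≤ q := Nat.pow_le_pow_right two_pos hn1
    have hodd : Odd (q + 1) := Even.add_one (Nat.even_pow.mpr ⟨even_two, by omega⟩)
    have hcop : ∀ m : ℕ, (∀ p, p.Prime → p ∣ q + 1 → p ∣ m → p = 2) → (q + 1).Coprime m := fun m hm =>
      Nat.coprime_of_dvd fun p hp hp1 hp2 => by
        obtain rfl := hm p hp hp1 hp2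
        exact absurd (even_iff_two_dvd.mpr hp1) (Nat.not_even_iff_odd.mpr hodd)
    have c1 : (q + 1).Coprime q := Nat.coprime_self_add_left.mpr (Nat.coprime_one_left q)
    have c2 : (q + 1).Coprime (q - 1) := hcop _ fun p hp hp1 hp2 => by
      have := Nat.dvd_sub hp1 hp2
      rw [show q + 1 - (q - 1) = 2 by omega] at this
      exact (Nat.prime_dvd_prime_iff_eq hp Nat.prime_two).mp this
    have c3 : (q + 1).Coprime (q ^ 2 + 1) := hcop _ fun p hp hp1 hp2 => by
      have h5 : p ∣ (q + 1) * (q - 1) := hp1.mul_right _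
      have e1 : q ^ 2 + 1 = (q + 1) * (q - 1) + 2 := by
        obtain ⟨r, hr⟩ := Nat.exists_eq_add_of_le (show 1 ≤ q by omega)
        rw [hr, Nat.add_sub_cancel_left]
        ring
      rw [e1, ← Nat.dvd_add_iff_right h5] at hp2
      exact (Nat.prime_dvd_prime_iff_eq hp Nat.prime_two).mp hp2
    have := Nat.eq_one_of_dvd_coprimes ((c3.mul_right ((c1.pow_right 2).mul_right c2))) dvd_rfl h1
    omega
  set k := (Units.mk0 _ hc)⁻¹ with hk
  have hwa' : (κ k * w) • a = b := by rw [mul_smul, hwa, K.κ_b C]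
  have hwb' : (κ k * w) • b = a := by rw [mul_smul, hwb, K.κ_a C]
  obtain ⟨f', hne', hfp', hinv', heq'⟩ := K.exists_swap C hwa' hwb'
  refine ⟨κ k * w, f', hwa', hwb', hne', hfp', hinv', heq', ?_⟩
  have h1 := hfp' _ hz
  rw [mul_smul, hfp _ hz, K.pt_act C] at h1
  rw [← K.pt_inj C h1, hk]
  simp [act, inv_mul_cancel₀ hc]

/-- the relations -/
theorem exists_rel (hcard : Fintype.card F = e + 1) :
    ∃ (w : G) (f : F × F → F × F) (β k : F), w • a = b ∧ w • b = a ∧
      (∀ p, p ≠ 0 → w • ι p • b = ι (f p) • b) ∧ Rel φ f β k := by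
  obtain ⟨w, f, hwa, hwb, hne, hfp, hinv, heq, h1⟩ := K.exists_normal_swap C hcard
  obtain ⟨hw, hwk⟩ := K.swap_spec C hwa hwb
  set β := (f (0, 1)).2
  have hz : ((0 : F), (1 : F)) ≠ 0 := fun e' => one_ne_zero (congrArg Prod.snd e')
  have hfz : f (0, 1) = (1, β) := Prod.ext h1 rfl
  set g := w * ι (0, 1) * w with hg
  set c : F × F := (1, β)
  have hgb : g • b = b := by rw [hg, mul_smul, mul_smul, hwb, K.ι_a C, hwa]
  have hga : g • a = ι c • b := by rw [hg, mul_smul, mul_smul, hwa, hfp _ hz, hfz]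
  have hg2 : g * g = 1 := by
    have h2 : ι (0, 1) * ι (0, 1) = (1 : G) := by
      rw [← K.ι_mul, ← K.ι_zero C]
      refine congrArg ι ?_
      simp [star, CharTwo.add_self_eq_zero]
    rw [hg, show w * ι (0, 1) * w * (w * ι (0, 1) * w) = w * ι (0, 1) * (w * w) * ι (0, 1) * w by group, hw,
      mul_one, mul_assoc w, h2, mul_one, hw]
  obtain ⟨k', hk'⟩ := K.κ_surj (w * (ι c)⁻¹ * g * ι c) (by
    constructor
    · show (w * (ι c)⁻¹ * g * ι c) • a = a
      rw [mul_smul, mul_smul, mul_smul, K.ι_a C, hga, inv_smul_smul, hwb]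
    · show (w * (ι c)⁻¹ * g * ι c) • b = b
      rw [mul_smul, mul_smul, mul_smul, ← hga, ← mul_smul g g, hg2, one_smul,
        inv_smul_eq_iff.mpr (K.ι_a C c).symm, hwa])
  have hgeq : g = ι c * κ k'⁻¹ * w * (ι c)⁻¹ := by
    rw [← hwk, hk']
    calc g = ι c * ((w * w) * ((ι c)⁻¹ * g * ι c) * (w * w)) * (ι c)⁻¹ := by rw [hw]; group
      _ = _ := by simp only [mul_assoc]
  refine ⟨w, f, β, ((k'⁻¹ : Fˣ) : F), hwa, hwb, hfp,
    ⟨K.inj, Units.ne_zero _, hne, hinv, heq, hfz, fun p hp hpc => ?_⟩⟩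
  have hs1 : star φ (pinv φ c) p ≠ 0 := fun e' => hpc (by
    have := congrArg (star φ c) e'
    rw [← star_assoc, star_pinv, star_zero_left] at this
    rw [this]
    simp [c, star])
  have e1 : g • ι p • b = ι (star φ c (act φ ((k'⁻¹ : Fˣ) : F) (f (star φ (pinv φ c) p)))) • b := by
    rw [hgeq, mul_smul, mul_smul, mul_smul, K.ι_inv C, K.pt_star C, hfp _ hs1, K.pt_act C, K.pt_star C]
  have hs2 : star φ (0, 1) (f p) ≠ 0 := fun e' => by
    have e2 : g • ι p • b = a := by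
      rw [hg, mul_smul, mul_smul, hfp p hp, K.pt_star C, e', K.pt_zero C, hwb]
    exact K.pt_ne_a C _ (e1.symm.trans e2)
  refine K.pt_inj C (Eq.trans ?_ e1)
  rw [hg, mul_smul, mul_smul, hfp p hp, K.pt_star C, hfp _ hs2]

/-- the coordinates belonging to the inverse automorphism -/
theorem flip : Coords H (stab₂ G a b) F φ.symm (fun p => ι (φ.symm p.1, p.2 + psi φ (φ.symm p.1)))
    (κ.comp (Units.map (φ.symm : F →* F))) := by
  have hΦ : ∀ p : F × F, ∃ q : F × F, (φ.symm q.1, q.2 + psi φ (φ.symm q.1)) = p := fun p =>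
    ⟨(φ p.1, p.2 + psi φ p.1), by simp [add_assoc, CharTwo.add_self_eq_zero]⟩
  refine ⟨fun x hx => ?_, fun e' => K.ne_refl ?_, ?_, fun p => K.ι_mem _, fun p q e' => ?_, fun u hu => ?_,
    fun p q => ?_, fun k => K.κ_mem _, fun k l e' => ?_, fun t ht => ?_, fun k p => ?_⟩
  · have h1 : psi φ (φ.symm x) = 1 := by
      rw [← hx]
      simp [psi, mul_comm]
    have := congrArg φ (K.inj _ h1)
    simpa using this
  · rw [← φ.symm_symm, e']
    rfl
  · show Odd (orderOf (φ⁻¹ : F ≃+* F))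
    rw [orderOf_inv]
    exact K.odd
  · have h1 := K.ι_inj e'
    have h2 : p.1 = q.1 := φ.symm.injective (congrArg Prod.fst h1)
    refine Prod.ext h2 ?_
    have h3 := congrArg Prod.snd h1
    simp only [h2] at h3
    exact add_right_cancel h3
  · obtain ⟨p, rfl⟩ := K.ι_surj u hu
    obtain ⟨q, hq⟩ := hΦ p
    exact ⟨q, congrArg ι hq⟩
  · rw [← K.ι_mul]
    refine congrArg ι ?_
    simp only [star, psi, map_add, RingEquiv.apply_symm_apply, Prod.mk.injEq, true_and]
    grind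
  · exact Units.map_injective (f := (φ.symm : F →* F)) φ.symm.injective (K.κ_inj e')
  · obtain ⟨k, rfl⟩ := K.κ_surj t ht
    refine ⟨Units.map (φ : F →* F) k, congrArg κ (Units.ext ?_)⟩
    exact φ.symm_apply_apply (k : F)
  · show κ _ * ι _ * (κ _)⁻¹ = _
    rw [K.conj]
    refine congrArg ι ?_
    simp only [act, psi, map_mul, RingEquiv.apply_symm_apply, Units.coe_map, MonoidHom.coe_coe, Prod.mk.injEq,
      true_and]
    ring

end Coords

/-- Coordinates with the normalised relations. -/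
theorem exists_frame (C : Cfsg.Lib.ZTGroups.Core a b H h e) :
    ∃ (F : Type) (_ : Field F) (_ : Fintype F) (_ : CharP F 2) (φ : F ≃+* F) (ι : F × F → G) (κ : Fˣ →* G) (w : G)
      (f : F × F → F × F) (k : F),
      Fintype.card F = e + 1 ∧ Coords H (stab₂ G a b) F φ ι κ ∧ w • a = b ∧ w • b = a ∧
        (∀ p, p ≠ 0 → w • ι p • b = ι (f p) • b) ∧ Rel φ f 0 k := by
  obtain ⟨F, iF, iFF, iC, φ, ι, κ, hcard, K⟩ := exists_coords C
  obtain ⟨w, f, β, k, hwa, hwb, hfp, R⟩ := K.exists_rel C hcard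
  have hmod : Fintype.card F % 3 = 2 := by
    obtain ⟨n, ⟨j, rfl⟩, -, -, hen⟩ := C.parameters
    rw [hcard, hen, pow_succ, pow_mul, Nat.mul_mod, Nat.pow_mod]
    norm_num
  rcases R.beta_cases K.ne_refl hmod with rfl | rfl
  · exact ⟨F, iF, iFF, iC, φ, ι, κ, w, f, k, hcard, K, hwa, hwb, hfp, R⟩
  -- pass to the inverse automorphism
  have K' := K.flip C
  obtain ⟨w', f', β', k', hwa', hwb', hfp', R'⟩ := K'.exists_rel C hcard
  rcases R'.beta_cases K'.ne_refl hmod with rfl | rfl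
  · exact ⟨F, iF, iFF, iC, φ.symm, _, _, w', f', k', hcard, K', hwa', hwb', hfp', R'⟩
  exfalso
  set ι' : F × F → G := fun p => ι (φ.symm p.1, p.2 + psi φ (φ.symm p.1))
  have hz : ((0 : F), (1 : F)) ≠ 0 := fun e' => one_ne_zero (congrArg Prod.snd e')
  obtain ⟨t, ht⟩ := K.κ_surj (w' * w) ⟨by show (w' * w) • a = a; rw [mul_smul, hwa, hwb'],
    by show (w' * w) • b = b; rw [mul_smul, hwb, hwa']⟩
  have hww : w' = κ t * w := by rw [ht, mul_assoc, (K.swap_spec C hwa hwb).1, mul_one]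
  have e1 : ι' (0, 1) = ι (0, 1) := by simp [ι', psi]
  have e2 : ι' ((1 : F), (1 : F)) = ι (1, 0) := by simp [ι', psi, CharTwo.add_self_eq_zero]
  have h1 := hfp' _ hz
  rw [R'.fz] at h1
  change w' • ι' (0, 1) • b = ι' (1, 1) • b at h1
  rw [e1, e2, hww, mul_smul, hfp _ hz, R.fz, K.pt_act C] at h1
  have h2 := congrArg Prod.snd (K.pt_inj C h1)
  simp only [act, mul_one] at h2
  exact psi_ne_zero t.ne_zero h2

end Cfsg.Lib.SuzukiUnique
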